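import Cfsg.Agent.H752.Two.CoInv
import Cfsg.Prelude.Def_Spor_Conway
import Cfsg.Agent.LThreeCo1.QEv
import Cfsg.Agent.H477.HC.RowSp
import Cfsg.Agent.H720.PV.Tools
import Cfsg.Agent.H811.PSq.RankTwo_mg
import Cfsg.Agent.H419.Count_m3
import Cfsg.Agent.Nodes.WittAll
import Cfsg.Agent.Nodes.WittU
import Cfsg.Agent.TitsThree.KInstSp
import Cfsg.Agent.S0777
import Cfsg.Agent.H649.VanSp4.Tor
import Cfsg.Agent.H620.PNorm
import Cfsg.Agent.S1092
import Cfsg.Agent.S0245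
import Cfsg.Agent.H686.VO.PSL_m3
import Cfsg.Agent.BpCl.Rows
import Cfsg.Agent.H579.RkMinus_m3
import Cfsg.Agent.S0822
import Cfsg.Agent.H361.SelfCent
import Cfsg.Agent.H424.BlockTools
import Cfsg.Agent.H341.ThreeList_m3
import Cfsg.Agent.S2469
import Cfsg.Agent.S2472
import Cfsg.Agent.S2545
import Cfsg.Prelude.Def_LieTypeChar
import Cfsg.Agent.Prune
set_option linter.all false

section
prune_inst 0x7fffe8fdbbab79deffff7e3fa6d8cdfc33828fffa4dff94b7fe0e99f0f9f031209c5f3858de030fe1ed6c21410a87843f97eeeffe26bdc7ffffd5ff41ffbee0fe5f7b508519c8cb40fb42ffe83f0778e7f3fffffffffffffffffffffffffffbeffbfffffffff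

-- part: H592/VN/Co3Cls
section
set_option linter.all false
open scoped Cfsg.Agent.FastGrp

/-!
# S4555 / S4559, the row `Co3`, `p = 2`: words with 33 different traces (helper592; generated by a script)
-/

set_option autoImplicit false
set_option Elab.async false
set_option maxRecDepth 100000

namespace Cfsg.Agent.H592.VN.Co3

open Cfsg Cfsg.Agent.SporadicStructure.Co0Matrix Cfsg.Agent.CoOneType.CoEval Cfsg.Agent.LThreeCo1.Ev
  Cfsg.Agent.H752.CoInv

def n0 : ℕ := 0xa425094a52842508421274a10942528425473a52841d08421293a1074252841d0949d2841d08421294a14741d2841d074a52842508421293a10951ce84250749d2842548420e94a107424e84250939d2852508420e93a10941d294a128419093a0e93a50841ce84a10841d0739ce842508521294a10942528425074a4e841d0a420e94a10941d294a0e8421073a1294a50831d283a10939928421074a1293a508424e83a1093a128421094a0e949d0841d283a0c8425093a4e842508429294a10741ce84250949ce841d08421293a909424e841d094a4ea42508420e93a107425293a128421073a0e74a4c8425284a1074a128421094a1294a506425284a1093a0e8321093a12939d08425284a1094a128420c74a12739d0841d284a1093a0e842109499274a50841ce84a1094a0e8421074a0e949d08424e64a10851d093a52841d08420e94a109424e94a128421093a12749d08424e8399094a0e6421094a0e73a508425283a10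

private noncomputable def _root_.Cfsg.Agent.KO599ffcb.k0 : type_of% @Int.add := @(fun x0 x1 => @Int.rec.{1} @(fun x2 => ℤ) @(fun x2 => @Int.rec.{1} @(fun x3 => ℤ) @(fun x3 => @Int.ofNat (@Nat.add @x2 @x3)) @(fun x3 => @Nat.rec.{1} @(fun x4 => ℤ) (@Int.ofNat (@Nat.sub @x2 (@Nat.succ @x3))) @(fun x4 x5 => @Int.negSucc @x4) (@Nat.sub (@Nat.succ @x3) @x2)) @x1) @(fun x2 => @Int.rec.{1} @(fun x3 => ℤ) @(fun x3 => @Nat.rec.{1} @(fun x4 => ℤ) (@Int.ofNat (@Nat.sub @x3 (@Nat.succ @x2))) @(fun x4 x5 => @Int.negSucc @x4) (@Nat.sub (@Nat.succ @x2) @x3)) @(fun x3 => @Int.negSucc (@Nat.succ (@Nat.add @x2 @x3))) @x1) @x0)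
private theorem _root_.Cfsg.Agent.KO599ffcb.e0 : @Int.add = @_root_.Cfsg.Agent.KO599ffcb.k0 := by delta _root_.Cfsg.Agent.KO599ffcb.k0; rfl'
private noncomputable def _root_.Cfsg.Agent.KO599ffcb.k1 : (by first | exact type_of% @Cfsg.Agent.Co0Q.jj | exact Unit : Sort _) := by first | (refine @Subtype.val _ (fun g => @Cfsg.Agent.Co0Q.jj = @g) (@Subtype.mk _ _ (@(fun x0 x1 => @Nat.div (@Nat.sub (@Nat.pow (nat_lit 2) (@Nat.mul @x0 @x1)) (nat_lit 1)) (@Nat.sub (@Nat.pow (nat_lit 2) @x0) (nat_lit 1)))) ?_); rfl') | exact @Cfsg.Agent.Co0Q.jj | exact ()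
private theorem _root_.Cfsg.Agent.KO599ffcb.e1 : (by first | exact @Cfsg.Agent.Co0Q.jj = @_root_.Cfsg.Agent.KO599ffcb.k1 | exact True : Prop) := by first | (delta _root_.Cfsg.Agent.KO599ffcb.k1; exact @Subtype.property _ (fun g => @Cfsg.Agent.Co0Q.jj = @g) _) | rfl | trivial
private noncomputable def _root_.Cfsg.Agent.KO599ffcb.k2 : (by first | exact type_of% @Cfsg.Agent.Co0Q.tst | exact Unit : Sort _) := by first | (refine @Subtype.val _ (fun g => @Cfsg.Agent.Co0Q.tst = @g) (@Subtype.mk _ _ (@(fun x0 x1 x2 => @Nat.beq (@Nat.land (@Int.rec.{1} @(fun x3 => ℕ) @(fun x3 => @x3) @(fun x3 => nat_lit 0) (@Cfsg.Agent.KO599ffcb.k0 @x2 (@Int.ofNat (@Nat.mul (@Nat.pow (nat_lit 2) (nat_lit 40)) (@Nat.mul (@Cfsg.Agent.KO599ffcb.k1 (nat_lit 48) @x0) (@Cfsg.Agent.KO599ffcb.k1 (@Nat.mul (nat_lit 48) @x0) @x0)))))) (@Nat.mul (@Nat.sub (@Nat.pow (nat_lit 2) @x1) (nat_lit 1)) (@Nat.mul (@Cfsg.Agent.KO599ffcb.k1 (nat_lit 48)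 @x0) (@Cfsg.Agent.KO599ffcb.k1 (@Nat.mul (nat_lit 48) @x0) @x0)))) (nat_lit 0))) ?_); rewrite [← Cfsg.Agent.KO599ffcb.e1, ← Cfsg.Agent.KO599ffcb.e0]; (try delta Cfsg.Agent.Co0Q.tst); (try generalize @Cfsg.Agent.Co0Q.jj = g0); rfl') | exact @Cfsg.Agent.Co0Q.tst | exact ()
private theorem _root_.Cfsg.Agent.KO599ffcb.e2 : (by first | exact @Cfsg.Agent.Co0Q.tst = @_root_.Cfsg.Agent.KO599ffcb.k2 | exact True : Prop) := by first | (delta _root_.Cfsg.Agent.KO599ffcb.k2; exact @Subtype.property _ (fun g => @Cfsg.Agent.Co0Q.tst = @g) _) | rfl | trivial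
private noncomputable def _root_.Cfsg.Agent.KO599ffcb.k3 : (by first | exact type_of% @Cfsg.Agent.Co0Q.dk | exact Unit : Sort _) := by first | (refine @Subtype.val _ (fun g => @Cfsg.Agent.Co0Q.dk = @g) (@Subtype.mk _ _ (@(fun x0 => @List.rec.{1, 0} ℤ @(fun x1 => (@List.{0} ℤ) → ℕ → ℕ → ℤ) @(fun x1 x2 x3 => @Nat.rec.{1} @(fun x4 => ℤ) (@Int.ofNat (@Nat.sub @x2 @x3)) @(fun x4 x5 => @Int.negSucc @x4) (@Nat.sub @x3 @x2)) @(fun x1 x2 x3 x4 x5 x6 => @List.rec.{1, 0} ℤ @(fun x7 => ℤ) (@Nat.rec.{1} @(fun x7 => ℤ) (@Int.ofNat (@Nat.sub @x5 @x6)) @(fun x7 x8 => @Int.negSucc @x7) (@Nat.sub @x6 @x5)) @(fun x7 x8 x9 => @Int.rec.{1} @(fun x10 => ℤ) @(fun x10 => @Int.rec.{1} @(fun x11 => ℤ) @(fun x11 => @x3 @x8 (@Nat.add @x5 (@Nat.mul @x10 @x11)) @x6) @(fun x11 => @x3 @x8 @x5 (@Nat.add @x6 (@Nat.mul @x10 (@Nat.succ @x11)))) @x7) @(fun x10 => @Int.rec.{1} @(fun x11 => ℤ) @(fun x11 => @x3 @x8 @x5 (@Nat.add @x6 (@Nat.mul (@Nat.succ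 @x10) @x11))) @(fun x11 => @x3 @x8 (@Nat.add @x5 (@Nat.mul (@Nat.succ @x10) (@Nat.succ @x11))) @x6) @x7) @x1) @x4) @x0)) ?_); rfl') | exact @Cfsg.Agent.Co0Q.dk | exact ()
private theorem _root_.Cfsg.Agent.KO599ffcb.e3 : (by first | exact @Cfsg.Agent.Co0Q.dk = @_root_.Cfsg.Agent.KO599ffcb.k3 | exact True : Prop) := by first | (delta _root_.Cfsg.Agent.KO599ffcb.k3; exact @Subtype.property _ (fun g => @Cfsg.Agent.Co0Q.dk = @g) _) | rfl | trivial
private theorem _root_.Cfsg.Agent.KO599ffcb.e4.{ku, kv} {α : Type kv} {M : List α → Sort ku} (φ : ∀ l, M l) {z : M List.nil} {s : ∀ a l, M l → M (List.cons a l)} (h0 : φ List.nil = z) (hs : ∀ a l, φ (List.cons a l) = s a l (φ l)) (l : List α) : φ l = @List.rec α M z s l := List.rec h0 (fun a l ih => (hs a l).trans (congrArg (s a l) ih)) l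
private noncomputable def _root_.Cfsg.Agent.KO599ffcb.k5.{ku0} : type_of% @List.append.{ku0} := @(fun x0 x1 x2 => @List.rec.{(ku0+1), ku0} @x0 @(fun x3 => (@List.{ku0} @x0) → @List.{ku0} @x0) @(fun x3 => @x3) @(fun x3 x4 x5 x6 => @x3 :: (@x5 @x6)) @x1 @x2)
private theorem _root_.Cfsg.Agent.KO599ffcb.e5.{ku0} : @List.append.{ku0} = @_root_.Cfsg.Agent.KO599ffcb.k5.{ku0} := by delta _root_.Cfsg.Agent.KO599ffcb.k5; funext a0 a1 a2; refine (congrFun (_root_.Cfsg.Agent.KO599ffcb.e4 (fun a1 a2 => @List.append.{ku0} a0 a1 a2) ?_ (fun c0 c1 => ?_) a1) a2 :) <;> (rfl')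
private noncomputable def _root_.Cfsg.Agent.KO599ffcb.k6.{ku0, ku1} : type_of% @List.map.{ku0, ku1} := @(fun x0 x1 x2 x3 => @List.rec.{(ku1+1), ku0} @x0 @(fun x4 => @List.{ku1} @x1) [] @(fun x4 x5 x6 => (@x2 @x4) :: @x6) @x3)
private theorem _root_.Cfsg.Agent.KO599ffcb.e6.{ku0, ku1} : @List.map.{ku0, ku1} = @_root_.Cfsg.Agent.KO599ffcb.k6.{ku0, ku1} := by delta _root_.Cfsg.Agent.KO599ffcb.k6; funext a0 a1 a2 a3; refine (_root_.Cfsg.Agent.KO599ffcb.e4 (fun a3 => @List.map.{ku0, ku1} a0 a1 a2 a3) ?_ (fun c0 c1 => ?_) a3 :) <;> (rfl')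
private noncomputable def _root_.Cfsg.Agent.KO599ffcb.k7.{ku0, ku1} : type_of% @List.foldr.{ku0, ku1} := @(fun x0 x1 x2 x3 x4 => @List.rec.{(ku1+1), ku0} @x0 @(fun x5 => @x1) @x3 @(fun x5 x6 x7 => @x2 @x5 @x7) @x4)
private theorem _root_.Cfsg.Agent.KO599ffcb.e7.{ku0, ku1} : @List.foldr.{ku0, ku1} = @_root_.Cfsg.Agent.KO599ffcb.k7.{ku0, ku1} := by delta _root_.Cfsg.Agent.KO599ffcb.k7; funext a0 a1 a2 a3 a4; refine (_root_.Cfsg.Agent.KO599ffcb.e4 (fun a4 => @List.foldr.{ku0, ku1} a0 a1 a2 a3 a4) ?_ (fun c0 c1 => ?_) a4 :) <;> (rfl')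
private theorem _root_.Cfsg.Agent.KO599ffcb.e8.{ku} {M : Nat → Sort ku} (φ : ∀ n, M n) {z : M Nat.zero} {s : ∀ n, M n → M (Nat.succ n)} (h0 : φ Nat.zero = z) (hs : ∀ n, φ (Nat.succ n) = s n (φ n)) (n : Nat) : φ n = @Nat.rec M z s n := Nat.rec h0 (fun n ih => (hs n).trans (congrArg (s n) ih)) n
private noncomputable def _root_.Cfsg.Agent.KO599ffcb.k9 : type_of% @List.range.loop := @(fun x0 x1 => @Nat.rec.{1} @(fun x2 => (@List.{0} ℕ) → @List.{0} ℕ) @(fun x2 => @x2) @(fun x2 x3 x4 => @x3 (@x2 :: @x4)) @x0 @x1)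
private theorem _root_.Cfsg.Agent.KO599ffcb.e9 : @List.range.loop = @_root_.Cfsg.Agent.KO599ffcb.k9 := by delta _root_.Cfsg.Agent.KO599ffcb.k9; funext a0 a1; refine (congrFun (_root_.Cfsg.Agent.KO599ffcb.e8 (fun a0 a1 => @List.range.loop a0 a1) ?_ (fun c0 => ?_) a0) a1 :) <;> (rfl')
private noncomputable def _root_.Cfsg.Agent.KO599ffcb.k10 : (by first | exact type_of% @Cfsg.Agent.Co0Q.cf | exact Unit : Sort _) := by first | (refine @Subtype.val _ (fun g => @Cfsg.Agent.Co0Q.cf = @g) (@Subtype.mk _ _ (@(fun x0 => @Cfsg.Agent.KO599ffcb.k5.{0} _ (@Cfsg.Agent.KO599ffcb.k6.{0, 0} _ _ @(fun x1 => @Int.ofNat (@Nat.add (@Nat.add (@Nat.pow (nat_lit 2) (@Nat.add (@Nat.mul @x0 @x1) (nat_lit 2))) (@Nat.shiftLeft (@Nat.mod (@Nat.shiftLeft (@Cfsg.Agent.KO599ffcb.k7.{0, 0} _ _ @(fun x2 x3 => @Nat.add (@Nat.pow (nat_lit 2) (@Nat.mul @x0 @x2)) @x3) (nat_lit 0) ((nat_lit 0) :: ((nat_lit 5) :: ((nat_lit 7) :: ((nat_lit 10) ::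 ((nat_lit 11) :: ((nat_lit 14) :: ((nat_lit 15) :: ((nat_lit 17) :: ((nat_lit 19) :: ((nat_lit 20) :: ((nat_lit 21) :: ((nat_lit 22) :: []))))))))))))) (@Nat.mul @x0 @x1)) (@Nat.sub (@Nat.pow (nat_lit 2) (@Nat.mul @x0 (nat_lit 23))) (nat_lit 1))) (@Nat.succ (@Nat.mul @x0 (nat_lit 23))))) (@Nat.add (@Nat.pow (nat_lit 2) (@Nat.succ (@Nat.mul @x0 (nat_lit 47)))) (@Nat.pow (nat_lit 2) (@Nat.mul @x0 (nat_lit 48)))))) (@Cfsg.Agent.KO599ffcb.k9 (nat_lit 23) [])) ((@Nat.rec.{1} @(fun x1 => ℤ) (@Int.ofNat (@Nat.sub (@Nat.add (@Nat.pow (nat_lit 2) (@Nat.add (@Nat.mul @x0 (nat_lit 46)) (nat_lit 3))) (@Nat.pow (nat_lit 2) (@Nat.succ (@Nat.mul @x0 (nat_lit 47))))) (@Nat.add (@Nat.mul (nat_lit 4) (@Cfsg.Agent.KO599ffcb.k1 @x0 (nat_lit 23))) (@Nat.mul (nat_lit 3) (@Nat.pow (nat_lit 2) (@Nat.mul @x0 (nat_lit 48))))))) @(fun x1 x2 => @Int.negSucc @x1) (@Nat.sub (@Nat.add (@Nat.mul (nat_lit 4) (@Cfsg.Agent.KO599ffcb.k1 @x0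 (nat_lit 23))) (@Nat.mul (nat_lit 3) (@Nat.pow (nat_lit 2) (@Nat.mul @x0 (nat_lit 48))))) (@Nat.add (@Nat.pow (nat_lit 2) (@Nat.add (@Nat.mul @x0 (nat_lit 46)) (nat_lit 3))) (@Nat.pow (nat_lit 2) (@Nat.succ (@Nat.mul @x0 (nat_lit 47))))))) :: []))) ?_); rewrite [← Cfsg.Agent.KO599ffcb.e1, ← Cfsg.Agent.KO599ffcb.e9, ← Cfsg.Agent.KO599ffcb.e7.{0, 0}, ← Cfsg.Agent.KO599ffcb.e6.{0, 0}, ← Cfsg.Agent.KO599ffcb.e5.{0}]; (try delta Cfsg.Agent.Co0Q.cf); (try generalize @Cfsg.Agent.Co0Q.jj = g0); rfl') | exact @Cfsg.Agent.Co0Q.cf | exact ()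
private theorem _root_.Cfsg.Agent.KO599ffcb.e10 : (by first | exact @Cfsg.Agent.Co0Q.cf = @_root_.Cfsg.Agent.KO599ffcb.k10 | exact True : Prop) := by first | (delta _root_.Cfsg.Agent.KO599ffcb.k10; exact @Subtype.property _ (fun g => @Cfsg.Agent.Co0Q.cf = @g) _) | rfl | trivial
private noncomputable def _root_.Cfsg.Agent.KO599ffcb.k11 : (by first | exact type_of% @Cfsg.Agent.Co0Q.mv | exact Unit : Sort _) := by first | (refine @Subtype.val _ (fun g => @Cfsg.Agent.Co0Q.mv = @g) (@Subtype.mk _ _ (@(fun x0 x1 => @List.rec.{1, 0} (@List.{0} ℤ) @(fun x2 => @List.{0} ℤ) [] @(fun x2 x3 x4 => (@Cfsg.Agent.KO599ffcb.k3 @x2 @x1 (nat_lit 0) (nat_lit 0)) :: @x4) @x0)) ?_); rewrite [← Cfsg.Agent.KO599ffcb.e3]; (try delta Cfsg.Agent.Co0Q.mv); (try generalize @Cfsg.Agent.Co0Q.dk = g0); rfl') | exact @Cfsg.Agent.Co0Q.mv | exact ()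
private theorem _root_.Cfsg.Agent.KO599ffcb.e11 : (by first | exact @Cfsg.Agent.Co0Q.mv = @_root_.Cfsg.Agent.KO599ffcb.k11 | exact True : Prop) := by first | (delta _root_.Cfsg.Agent.KO599ffcb.k11; exact @Subtype.property _ (fun g => @Cfsg.Agent.Co0Q.mv = @g) _) | rfl | trivial
private noncomputable def _root_.Cfsg.Agent.KO599ffcb.k12 : (by first | exact type_of% @Cfsg.Agent.Co0Q.prs | exact Unit : Sort _) := by first | (refine @Subtype.val _ (fun g => @Cfsg.Agent.Co0Q.prs = @g) (@Subtype.mk _ _ (@(fun x0 => @Cfsg.Agent.KO599ffcb.k2 (nat_lit 49) (nat_lit 6) (@Cfsg.Agent.KO599ffcb.k3 (@Cfsg.Agent.KO599ffcb.k10 (nat_lit 2352)) (@Cfsg.Agent.KO599ffcb.k11 @x0 (@Cfsg.Agent.KO599ffcb.k10 (nat_lit 48))) (nat_lit 0) (nat_lit 0)))) ?_); rewrite [← Cfsg.Agent.KO599ffcb.e11, ← Cfsg.Agent.KO599ffcb.e10, ← Cfsg.Agent.KO599ffcb.e3, ← Cfsg.Agent.KO599ffcb.e2]; (try delta Cfsg.Agent.Co0Q.prs); (try generalize @Cfsg.Agent.Co0Q.tst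 = g0); (try generalize @Cfsg.Agent.Co0Q.dk = g1); (try generalize @Cfsg.Agent.Co0Q.cf = g2); (try generalize @Cfsg.Agent.Co0Q.mv = g3); rfl') | exact @Cfsg.Agent.Co0Q.prs | exact ()
private theorem _root_.Cfsg.Agent.KO599ffcb.e12 : (by first | exact @Cfsg.Agent.Co0Q.prs = @_root_.Cfsg.Agent.KO599ffcb.k12 | exact True : Prop) := by first | (delta _root_.Cfsg.Agent.KO599ffcb.k12; exact @Subtype.property _ (fun g => @Cfsg.Agent.Co0Q.prs = @g) _) | rfl | trivial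
private noncomputable def _root_.Cfsg.Agent.KO599ffcb.k13 : (by first | exact type_of% @Cfsg.Agent.Co0Q.pw | exact Unit : Sort _) := by first | (refine @Subtype.val _ (fun g => @Cfsg.Agent.Co0Q.pw = @g) (@Subtype.mk _ _ (@(fun x0 => @Cfsg.Agent.KO599ffcb.k6.{0, 0} _ _ @(fun x1 => @Int.ofNat (@Nat.pow (nat_lit 2) (@Nat.mul @x0 @x1))) (@Cfsg.Agent.KO599ffcb.k9 (nat_lit 24) []))) ?_); rewrite [← Cfsg.Agent.KO599ffcb.e9, ← Cfsg.Agent.KO599ffcb.e6.{0, 0}]; rfl') | exact @Cfsg.Agent.Co0Q.pw | exact ()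
private theorem _root_.Cfsg.Agent.KO599ffcb.e13 : (by first | exact @Cfsg.Agent.Co0Q.pw = @_root_.Cfsg.Agent.KO599ffcb.k13 | exact True : Prop) := by first | (delta _root_.Cfsg.Agent.KO599ffcb.k13; exact @Subtype.property _ (fun g => @Cfsg.Agent.Co0Q.pw = @g) _) | rfl | trivial
private noncomputable def _root_.Cfsg.Agent.KO599ffcb.k14 : type_of% @Int.mul := @(fun x0 x1 => @Int.rec.{1} @(fun x2 => ℤ) @(fun x2 => @Int.rec.{1} @(fun x3 => ℤ) @(fun x3 => @Int.ofNat (@Nat.mul @x2 @x3)) @(fun x3 => @Nat.rec.{1} @(fun x4 => ℤ) (@Int.ofNat (nat_lit 0)) @(fun x4 x5 => @Int.negSucc @x4) (@Nat.mul @x2 (@Nat.succ @x3))) @x1) @(fun x2 => @Int.rec.{1} @(fun x3 => ℤ) @(fun x3 => @Nat.rec.{1} @(fun x4 => ℤ) (@Int.ofNat (nat_lit 0)) @(fun x4 x5 => @Int.negSucc @x4) (@Nat.mul (@Nat.succ @x2) @x3)) @(fun x3 => @Int.ofNat (@Nat.mul (@Nat.succ @x2) (@Nat.succ @x3))) @x1) @x0)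
private theorem _root_.Cfsg.Agent.KO599ffcb.e14 : @Int.mul = @_root_.Cfsg.Agent.KO599ffcb.k14 := by delta _root_.Cfsg.Agent.KO599ffcb.k14; rfl'
private noncomputable def _root_.Cfsg.Agent.KO599ffcb.k15 : (by first | exact type_of% @Cfsg.Agent.Co0Q.prd | exact Unit : Sort _) := by first | (refine @Subtype.val _ (fun g => @Cfsg.Agent.Co0Q.prd = @g) (@Subtype.mk _ _ (@(fun x0 x1 x2 => @Cfsg.Agent.KO599ffcb.k2 (nat_lit 24) (nat_lit 40) (@Cfsg.Agent.KO599ffcb.k0 (@Cfsg.Agent.KO599ffcb.k3 (@Cfsg.Agent.KO599ffcb.k11 @x0 (@Cfsg.Agent.KO599ffcb.k13 (nat_lit 48))) (@Cfsg.Agent.KO599ffcb.k11 @x1 (@Cfsg.Agent.KO599ffcb.k13 (nat_lit 1152))) (nat_lit 0) (nat_lit 0)) (@Int.rec.{1} @(fun x3 => ℤ) @(fun x3 => @Nat.rec.{1} @(fun x4 => ℤ) (@Int.ofNat (nat_lit 0)) @(fun x4 x5 => @Int.negSucc @x4) @x3) @(fun x3 => @Int.ofNat (@Nat.succ @x3)) (@Cfsg.Agent.KO599ffcb.k14 @x2 (@Cfsg.Agent.KO599ffcb.k3 (@Cfsg.Agent.KO599ffcb.k13 (nat_lit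 48)) (@Cfsg.Agent.KO599ffcb.k13 (nat_lit 1152)) (nat_lit 0) (nat_lit 0))))))) ?_); rewrite [← Cfsg.Agent.KO599ffcb.e14, ← Cfsg.Agent.KO599ffcb.e13, ← Cfsg.Agent.KO599ffcb.e11, ← Cfsg.Agent.KO599ffcb.e3, ← Cfsg.Agent.KO599ffcb.e0, ← Cfsg.Agent.KO599ffcb.e2]; (try delta Cfsg.Agent.Co0Q.prd); (try generalize @Cfsg.Agent.Co0Q.tst = g0); (try generalize @Cfsg.Agent.Co0Q.dk = g1); (try generalize @Cfsg.Agent.Co0Q.mv = g2); (try generalize @Cfsg.Agent.Co0Q.pw = g3); rfl') | exact @Cfsg.Agent.Co0Q.prd | exact ()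
private theorem _root_.Cfsg.Agent.KO599ffcb.e15 : (by first | exact @Cfsg.Agent.Co0Q.prd = @_root_.Cfsg.Agent.KO599ffcb.k15 | exact True : Prop) := by first | (delta _root_.Cfsg.Agent.KO599ffcb.k15; exact @Subtype.property _ (fun g => @Cfsg.Agent.Co0Q.prd = @g) _) | rfl | trivial
private noncomputable def _root_.Cfsg.Agent.KO599ffcb.k16.{ku0} : type_of% @List.tail.{ku0} := @(fun x0 x1 => @List.rec.{(ku0+1), ku0} @x0 @(fun x2 => @List.{ku0} @x0) [] @(fun x2 x3 x4 => @x3) @x1)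
private theorem _root_.Cfsg.Agent.KO599ffcb.e16.{ku0} : @List.tail.{ku0} = @_root_.Cfsg.Agent.KO599ffcb.k16.{ku0} := by delta _root_.Cfsg.Agent.KO599ffcb.k16; rfl'
private noncomputable def _root_.Cfsg.Agent.KO599ffcb.k17 : type_of% @Nat.decEq := @(fun x0 x1 => @Bool.rec.{1} @(fun x2 => (@Eq.{1} _ (@Nat.beq @x0 @x1) @x2) → @Decidable (@Eq.{1} _ @x0 @x1)) @(fun x2 => @Decidable.isFalse _ (@Nat.ne_of_beq_eq_false _ _ @x2)) @(fun x2 => @Decidable.isTrue _ (@Nat.eq_of_beq_eq_true _ _ @x2)) (@Nat.beq @x0 @x1) (@Eq.refl.{1} _ (@Nat.beq @x0 @x1)))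
private theorem _root_.Cfsg.Agent.KO599ffcb.e17 : @Nat.decEq = @_root_.Cfsg.Agent.KO599ffcb.k17 := by delta _root_.Cfsg.Agent.KO599ffcb.k17; rfl'
private noncomputable def _root_.Cfsg.Agent.KO599ffcb.k18 : type_of% @Int.decEq := @(fun x0 x1 => @Int.rec.{1} @(fun x2 => @Decidable (@Eq.{1} _ @x2 @x1)) @(fun x2 => @Int.rec.{1} @(fun x3 => @Decidable (@Eq.{1} _ (@Int.ofNat @x2) @x3)) @(fun x3 => @Decidable.rec.{1} _ @(fun x4 => @Decidable (@Eq.{1} _ (@Int.ofNat @x2) (@Int.ofNat @x3))) @(fun x4 => @Decidable.isFalse _ (@Int.decEq._proof_2 @x2 @x3 @x4)) @(fun x4 => @Decidable.isTrue _ (@Int.decEq._proof_1 @x2 @x3 @x4)) (@Cfsg.Agent.KO599ffcb.k17 @x2 @x3)) @(fun x3 => @Decidable.isFalse _ (@Int.decEq._proof_3 @x2 @x3)) @x1) @(fun x2 => @Int.rec.{1} @(fun x3 => @Decidable (@Eq.{1} _ (@Int.negSucc @x2) @x3)) @(fun x3 => @Decidable.isFalse _ (@Int.decEq._proof_4 @x2 @x3)) @(fun x3 => @Decidable.rec.{1} _ @(fun x4 =>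 @Decidable (@Eq.{1} _ (@Int.negSucc @x2) (@Int.negSucc @x3))) @(fun x4 => @Decidable.isFalse _ (@Int.decEq._proof_6 @x2 @x3 @x4)) @(fun x4 => @Decidable.isTrue _ (@Int.decEq._proof_5 @x2 @x3 @x4)) (@Cfsg.Agent.KO599ffcb.k17 @x2 @x3)) @x1) @x0)
private theorem _root_.Cfsg.Agent.KO599ffcb.e18 : @Int.decEq = @_root_.Cfsg.Agent.KO599ffcb.k18 := by delta _root_.Cfsg.Agent.KO599ffcb.k18; rewrite [← Cfsg.Agent.KO599ffcb.e17]; rfl'
private noncomputable def _root_.Cfsg.Agent.KO599ffcb.k19 : (by first | exact type_of% @Cfsg.Agent.Co0Q.eqq | exact Unit : Sort _) := by first | (refine @Subtype.val _ (fun g => @Cfsg.Agent.Co0Q.eqq = @g) (@Subtype.mk _ _ (@(fun x0 => @List.rec.{1, 0} ℤ @(fun x1 => (@List.{0} ℤ) → @Bool) @(fun x1 => @List.rec.{1, 0} ℤ @(fun x2 => @Bool) @Bool.true @(fun x2 x3 x4 => @Bool.false) @x1) @(fun x1 x2 x3 x4 => @List.rec.{1, 0} ℤ @(fun x5 => @Bool) @Bool.false @(fun x5 x6 x7 => @Bool.rec.{1} @(fun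 x8 => @Bool) @Bool.false (@x3 @x6) (@Decidable.rec.{1} _ @(fun x8 => @Bool) @(fun x8 => @Bool.false) @(fun x8 => @Bool.true) (@Cfsg.Agent.KO599ffcb.k18 @x1 @x5))) @x4) @x0)) ?_); rewrite [← Cfsg.Agent.KO599ffcb.e18]; rfl') | exact @Cfsg.Agent.Co0Q.eqq | exact ()
private theorem _root_.Cfsg.Agent.KO599ffcb.e19 : (by first | exact @Cfsg.Agent.Co0Q.eqq = @_root_.Cfsg.Agent.KO599ffcb.k19 | exact True : Prop) := by first | (delta _root_.Cfsg.Agent.KO599ffcb.k19; exact @Subtype.property _ (fun g => @Cfsg.Agent.Co0Q.eqq = @g) _) | rfl | trivial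
private noncomputable def _root_.Cfsg.Agent.KO599ffcb.k20 : (by first | exact type_of% @Cfsg.Agent.Co0Q.trq | exact Unit : Sort _) := by first | (refine @Subtype.val _ (fun g => @Cfsg.Agent.Co0Q.trq = @g) (@Subtype.mk _ _ (@(fun x0 x1 => @List.rec.{1, 0} (@List.{0} ℤ) @(fun x2 => (@List.{0} (@List.{0} ℤ)) → @Bool) @(fun x2 => @Bool.true) @(fun x2 x3 x4 x5 => @Bool.rec.{1} @(fun x6 => @Bool) @Bool.false (@x4 (@Cfsg.Agent.KO599ffcb.k6.{0, 0} _ _ (@Cfsg.Agent.KO599ffcb.k16.{0} _) @x5)) (@Cfsg.Agent.KO599ffcb.k19 (@Cfsg.Agent.KO599ffcb.k6.{0, 0} _ _ @(fun x6 => @List.rec.{1, 0} ℤ @(fun x7 => ℤ) (@Int.ofNat (nat_lit 0)) @(fun x7 x8 x9 => @x7) @x6) @x5) @x2)) @x1 @x0)) ?_); rewrite [← Cfsg.Agent.KO599ffcb.e19, ← Cfsg.Agent.KO599ffcb.e16.{0}, ← Cfsg.Agent.KO599ffcb.e6.{0, 0}]; (try delta Cfsg.Agent.Co0Q.trq); (try generalize @Cfsg.Agent.Co0Q.eqq = g0); rfl') | exact @Cfsg.Agent.Co0Q.trq | exact ()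
private theorem _root_.Cfsg.Agent.KO599ffcb.e20 : (by first | exact @Cfsg.Agent.Co0Q.trq = @_root_.Cfsg.Agent.KO599ffcb.k20 | exact True : Prop) := by first | (delta _root_.Cfsg.Agent.KO599ffcb.k20; exact @Subtype.property _ (fun g => @Cfsg.Agent.Co0Q.trq = @g) _) | rfl | trivial
private noncomputable def _root_.Cfsg.Agent.KO599ffcb.k21 : (by first | exact type_of% @Cfsg.Agent.Co0Q.rq | exact Unit : Sort _) := by first | (refine @Subtype.val _ (fun g => @Cfsg.Agent.Co0Q.rq = @g) (@Subtype.mk _ _ (@(fun x0 => @List.rec.{1, 0} ℤ @(fun x1 => ℕ → @Bool → @Bool) @(fun x1 x2 => @Bool.rec.{1} @(fun x3 => @Bool) @Bool.false @x2 (@Nat.beq @x1 (nat_lit 24))) @(fun x1 x2 x3 x4 x5 => @Bool.rec.{1} @(fun x6 => @Bool) @Bool.false (@x3 (@Nat.succ @x4) @x5) (@Nat.ble (@Int.rec.{1} @(fun x6 => ℕ) @(fun x6 => @x6) @(fun x6 => @Nat.succ @x6) @x1) (nat_lit 1000))) @x0)) ?_); rfl') | exact @Cfsg.Agent.Co0Q.rq | exact ()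
private theorem _root_.Cfsg.Agent.KO599ffcb.e21 : (by first | exact @Cfsg.Agent.Co0Q.rq = @_root_.Cfsg.Agent.KO599ffcb.k21 | exact True : Prop) := by first | (delta _root_.Cfsg.Agent.KO599ffcb.k21; exact @Subtype.property _ (fun g => @Cfsg.Agent.Co0Q.rq = @g) _) | rfl | trivial
private noncomputable def _root_.Cfsg.Agent.KO599ffcb.k22 : (by first | exact type_of% @Cfsg.Agent.Co0Q.shq | exact Unit : Sort _) := by first | (refine @Subtype.val _ (fun g => @Cfsg.Agent.Co0Q.shq = @g) (@Subtype.mk _ _ (@(fun x0 => @List.rec.{1, 0} (@List.{0} ℤ) @(fun x1 => @Bool) @Bool.true @(fun x1 x2 x3 => @Cfsg.Agent.KO599ffcb.k21 @x1 (nat_lit 0) @x3) @x0)) ?_); rewrite [← Cfsg.Agent.KO599ffcb.e21]; (try delta Cfsg.Agent.Co0Q.shq); (try generalize @Cfsg.Agent.Co0Q.rq = g0); rfl') | exact @Cfsg.Agent.Co0Q.shq | exact ()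
private theorem _root_.Cfsg.Agent.KO599ffcb.e22 : (by first | exact @Cfsg.Agent.Co0Q.shq = @_root_.Cfsg.Agent.KO599ffcb.k22 | exact True : Prop) := by first | (delta _root_.Cfsg.Agent.KO599ffcb.k22; exact @Subtype.property _ (fun g => @Cfsg.Agent.Co0Q.shq = @g) _) | rfl | trivial
private noncomputable def _root_.Cfsg.Agent.KO599ffcb.k23.{ku0} : type_of% @List.length.{ku0} := @(fun x0 x1 => @List.rec.{1, ku0} @x0 @(fun x2 => ℕ) (nat_lit 0) @(fun x2 x3 x4 => @Nat.add @x4 (nat_lit 1)) @x1)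
private theorem _root_.Cfsg.Agent.KO599ffcb.e23.{ku0} : @List.length.{ku0} = @_root_.Cfsg.Agent.KO599ffcb.k23.{ku0} := by delta _root_.Cfsg.Agent.KO599ffcb.k23; funext a0 a1; refine (_root_.Cfsg.Agent.KO599ffcb.e4 (fun a1 => @List.length.{ku0} a0 a1) ?_ (fun c0 c1 => ?_) a1 :) <;> (rfl')
private noncomputable def _root_.Cfsg.Agent.KO599ffcb.k24 : (by first | exact type_of% @Cfsg.Agent.Co0Q.okq | exact Unit : Sort _) := by first | (refine @Subtype.val _ (fun g => @Cfsg.Agent.Co0Q.okq = @g) (@Subtype.mk _ _ (@(fun x0 x1 => @Bool.rec.{1} @(fun x2 => @Bool) @Bool.false (@Cfsg.Agent.KO599ffcb.k12 @x0) (@Bool.rec.{1} @(fun x2 => @Bool) @Bool.false (@Cfsg.Agent.KO599ffcb.k15 @x1 @x1 (@Int.ofNat (nat_lit 64))) (@Bool.rec.{1} @(fun x2 => @Bool) @Bool.false (@Cfsg.Agent.KO599ffcb.k15 @x0 @x0 (@Int.ofNat (nat_lit 64))) (@Bool.rec.{1} @(fun x2 => @Bool) @Bool.false (@Cfsg.Agent.KO599ffcb.k20 @x0 @x1) (@Bool.rec.{1} @(fun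 x2 => @Bool) @Bool.false (@Cfsg.Agent.KO599ffcb.k22 @x1) (@Bool.rec.{1} @(fun x2 => @Bool) @Bool.false (@Cfsg.Agent.KO599ffcb.k22 @x0) (@Bool.rec.{1} @(fun x2 => @Bool) @Bool.false (@Nat.beq (@Cfsg.Agent.KO599ffcb.k23.{0} _ @x1) (nat_lit 24)) (@Nat.beq (@Cfsg.Agent.KO599ffcb.k23.{0} _ @x0) (nat_lit 24)))))))))) ?_); rewrite [← Cfsg.Agent.KO599ffcb.e23.{0}, ← Cfsg.Agent.KO599ffcb.e22, ← Cfsg.Agent.KO599ffcb.e20, ← Cfsg.Agent.KO599ffcb.e15, ← Cfsg.Agent.KO599ffcb.e12]; (try delta Cfsg.Agent.Co0Q.okq); (try generalize @Cfsg.Agent.Co0Q.prs = g0); (try generalize @Cfsg.Agent.Co0Q.prd = g1); (try generalize @Cfsg.Agent.Co0Q.trq = g2); (try generalize @Cfsg.Agent.Co0Q.shq = g3); rfl') | exact @Cfsg.Agent.Co0Q.okq | exact ()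
private theorem _root_.Cfsg.Agent.KO599ffcb.e24 : (by first | exact @Cfsg.Agent.Co0Q.okq = @_root_.Cfsg.Agent.KO599ffcb.k24 | exact True : Prop) := by first | (delta _root_.Cfsg.Agent.KO599ffcb.k24; exact @Subtype.property _ (fun g => @Cfsg.Agent.Co0Q.okq = @g) _) | rfl | trivial
private noncomputable def _root_.Cfsg.Agent.KO599ffcb.k25 : (by first | exact type_of% @Cfsg.Agent.LThreeCo1.Ev.decRow | exact Unit : Sort _) := by first | (refine @Subtype.val _ (fun g => @Cfsg.Agent.LThreeCo1.Ev.decRow = @g) (@Subtype.mk _ _ (@(fun x0 x1 => @Nat.rec.{1} @(fun x2 => ℕ → @List.{0} ℤ) @(fun x2 => []) @(fun x2 x3 x4 => (@Nat.rec.{1} @(fun x5 => ℤ) (@Int.ofNat (@Nat.sub (@Nat.mod @x4 (nat_lit 32)) (nat_lit 16))) @(fun x5 x6 => @Int.negSucc @x5) (@Nat.sub (nat_lit 16) (@Nat.mod @x4 (nat_lit 32)))) :: (@x3 (@Nat.div @x4 (nat_lit 32)))) @x0 @x1)) ?_); funext a0 a1; refine (congrFun (_root_.Cfsg.Agent.KO599ffcb.e8 (fun a0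 a1 => @Cfsg.Agent.LThreeCo1.Ev.decRow a0 a1) ?_ (fun c0 => ?_) a0) a1 :) <;> (rfl')) | exact @Cfsg.Agent.LThreeCo1.Ev.decRow | exact ()
private theorem _root_.Cfsg.Agent.KO599ffcb.e25 : (by first | exact @Cfsg.Agent.LThreeCo1.Ev.decRow = @_root_.Cfsg.Agent.KO599ffcb.k25 | exact True : Prop) := by first | (delta _root_.Cfsg.Agent.KO599ffcb.k25; exact @Subtype.property _ (fun g => @Cfsg.Agent.LThreeCo1.Ev.decRow = @g) _) | rfl | trivial
private noncomputable def _root_.Cfsg.Agent.KO599ffcb.k26 : (by first | exact type_of% @Cfsg.Agent.LThreeCo1.Ev.decRows | exact Unit : Sort _) := by first | (refine @Subtype.val _ (fun g => @Cfsg.Agent.LThreeCo1.Ev.decRows = @g) (@Subtype.mk _ _ (@(fun x0 x1 => @Nat.rec.{1} @(fun x2 => ℕ → @List.{0} (@List.{0} ℤ)) @(fun x2 => []) @(fun x2 x3 x4 => (@Cfsg.Agent.KO599ffcb.k25 (nat_lit 24) (@Nat.mod @x4 (@Nat.pow (nat_lit 2) (nat_lit 120)))) :: (@x3 (@Nat.div @x4 (@Nat.pow (nat_lit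 2) (nat_lit 120))))) @x0 @x1)) ?_); rewrite [← Cfsg.Agent.KO599ffcb.e25]; funext a0 a1; refine (congrFun (_root_.Cfsg.Agent.KO599ffcb.e8 (fun a0 a1 => @Cfsg.Agent.LThreeCo1.Ev.decRows a0 a1) ?_ (fun c0 => ?_) a0) a1 :) <;> ((try delta Cfsg.Agent.LThreeCo1.Ev.decRows Cfsg.Agent.LThreeCo1.Ev.decRows._f); (try generalize @Cfsg.Agent.LThreeCo1.Ev.decRow = g0); rfl')) | exact @Cfsg.Agent.LThreeCo1.Ev.decRows | exact ()
private theorem _root_.Cfsg.Agent.KO599ffcb.e26 : (by first | exact @Cfsg.Agent.LThreeCo1.Ev.decRows = @_root_.Cfsg.Agent.KO599ffcb.k26 | exact True : Prop) := by first | (delta _root_.Cfsg.Agent.KO599ffcb.k26; exact @Subtype.property _ (fun g => @Cfsg.Agent.LThreeCo1.Ev.decRows = @g) _) | rfl | trivial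
private noncomputable def _root_.Cfsg.Agent.KO599ffcb.k27 : (by first | exact type_of% @Cfsg.Agent.LThreeCo1.Ev.dec | exact Unit : Sort _) := by first | (refine @Subtype.val _ (fun g => @Cfsg.Agent.LThreeCo1.Ev.dec = @g) (@Subtype.mk _ _ (@(fun x0 => @Cfsg.Agent.KO599ffcb.k26 (nat_lit 24) @x0)) ?_); rewrite [← Cfsg.Agent.KO599ffcb.e26]; (try delta Cfsg.Agent.LThreeCo1.Ev.dec); (try generalize @Cfsg.Agent.LThreeCo1.Ev.decRows = g0); rfl') | exact @Cfsg.Agent.LThreeCo1.Ev.dec | exact ()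
private theorem _root_.Cfsg.Agent.KO599ffcb.e27 : (by first | exact @Cfsg.Agent.LThreeCo1.Ev.dec = @_root_.Cfsg.Agent.KO599ffcb.k27 | exact True : Prop) := by first | (delta _root_.Cfsg.Agent.KO599ffcb.k27; exact @Subtype.property _ (fun g => @Cfsg.Agent.LThreeCo1.Ev.dec = @g) _) | rfl | trivial
private noncomputable def _root_.Cfsg.Agent.KO599ffcb.k28 : (by first | exact type_of% @Cfsg.Agent.LThreeCo1.Ev.trAux | exact Unit : Sort _) := by first | (refine @Subtype.val _ (fun g => @Cfsg.Agent.LThreeCo1.Ev.trAux = @g) (@Subtype.mk _ _ (@(fun x0 x1 => @Nat.rec.{1} @(fun x2 => (@List.{0} (@List.{0} ℤ)) → @List.{0} (@List.{0} ℤ)) @(fun x2 => []) @(fun x2 x3 x4 => (@Cfsg.Agent.KO599ffcb.k6.{0, 0} _ _ @(fun x5 => @List.rec.{1, 0} ℤ @(fun x6 => ℤ) (@Int.ofNat (nat_lit 0)) @(fun x6 x7 x8 => @x6) @x5) @x4) :: (@x3 (@Cfsg.Agent.KO599ffcb.k6.{0, 0} _ _ (@Cfsg.Agent.KO599ffcb.k16.{0} _) @x4))) @x0 @x1)) ?_); rewrite [←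 Cfsg.Agent.KO599ffcb.e16.{0}, ← Cfsg.Agent.KO599ffcb.e6.{0, 0}]; funext a0 a1; refine (congrFun (_root_.Cfsg.Agent.KO599ffcb.e8 (fun a0 a1 => @Cfsg.Agent.LThreeCo1.Ev.trAux a0 a1) ?_ (fun c0 => ?_) a0) a1 :) <;> (rfl')) | exact @Cfsg.Agent.LThreeCo1.Ev.trAux | exact ()
private theorem _root_.Cfsg.Agent.KO599ffcb.e28 : (by first | exact @Cfsg.Agent.LThreeCo1.Ev.trAux = @_root_.Cfsg.Agent.KO599ffcb.k28 | exact True : Prop) := by first | (delta _root_.Cfsg.Agent.KO599ffcb.k28; exact @Subtype.property _ (fun g => @Cfsg.Agent.LThreeCo1.Ev.trAux = @g) _) | rfl | trivial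
private noncomputable def _root_.Cfsg.Agent.KO599ffcb.k29 : (by first | exact type_of% @Cfsg.Agent.LThreeCo1.Ev.tr | exact Unit : Sort _) := by first | (refine @Subtype.val _ (fun g => @Cfsg.Agent.LThreeCo1.Ev.tr = @g) (@Subtype.mk _ _ (@(fun x0 => @Cfsg.Agent.KO599ffcb.k28 (nat_lit 24) @x0)) ?_); rewrite [← Cfsg.Agent.KO599ffcb.e28]; (try delta Cfsg.Agent.LThreeCo1.Ev.tr); (try generalize @Cfsg.Agent.LThreeCo1.Ev.trAux = g0); rfl') | exact @Cfsg.Agent.LThreeCo1.Ev.tr | exact ()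
private theorem _root_.Cfsg.Agent.KO599ffcb.e29 : (by first | exact @Cfsg.Agent.LThreeCo1.Ev.tr = @_root_.Cfsg.Agent.KO599ffcb.k29 | exact True : Prop) := by first | (delta _root_.Cfsg.Agent.KO599ffcb.k29; exact @Subtype.property _ (fun g => @Cfsg.Agent.LThreeCo1.Ev.tr = @g) _) | rfl | trivial

theorem ok0 : okN n0 = true := Cfsg.Agent.Co0Q.okz_of (by (first | (rewrite [Cfsg.Agent.KO599ffcb.e24, Cfsg.Agent.KO599ffcb.e27, Cfsg.Agent.KO599ffcb.e29]; decide +kernel) | decide +kernel))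

def n1 : ℕ := 0x9c6338c6318c6319c5f37ce318c62f8bdf17cdef7cdf38be2d8c5f37bdf17c62f8c6318c6317c56f9be318c6338bded7cdef9be6f8be318c66f7bdf19c62f6c6318c5b17b5ef7be2d8c62f8cdf17bdef9bdef8ce2d8c5ef9bdf18be717bdef7be738be318b5ef9bdf18bdf19bdef9bdf36be318c5ef7be718bdf17bdef7cdef8ce318b66f7be718bdf17bdf39bdef8be318b5f37cdf18bdf17be6f7be6f8be2d8c5ef7ce718bdf17be6f7bdef6be318c6739bdf18cdf17bdf37ce6f6be318c5ef7bdf18ce6d7bdef7bdef8be318c5f37be718cdf19ce6f7bdef8be318b5ef7bdf18be719bdf37bdef8be2d8c66f7bdf17c62f8c6318c6317c66f5be318c6339c5af8c5b16b6317c5ef7be318c62f8bded9bdef7cdef8be318c5ef9cdf18be717cdef7bdef6ce318c5ef7cdf18bded7be737bdf38ce318c5ef7bdf19b62f8c6318c62d7c5ef7bdb18b62f9c62f8b62d8c6317c5ef7be316c5af7c62f8c6318c6317c66f9be318c62b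

theorem ok1 : okN n1 = true := Cfsg.Agent.Co0Q.okz_of (by (first | (rewrite [Cfsg.Agent.KO599ffcb.e24, Cfsg.Agent.KO599ffcb.e27, Cfsg.Agent.KO599ffcb.e29]; decide +kernel) | decide +kernel))

def n2 : ℕ := 0x9421284a5094a1294a528425094a529420e84a5094a0e949ce841d0749ce9421284a5073a12749ce841d093a4e9420e849d094a1273a4e8425073a4e9420e83a5093a0e93a52841d093a4e94212839d093a0e74a4e841d074a529420e839d093a12749d284250949ce9421283a5074a1273a52841d0749ce8495094212842508421094a128421094212849d073a0e93a4e84250949ce84a5094212841508421094a12842109420e83a5074a0e739ce8425094a5294212849d094a0e739d2841d0939d284a5054212842508421094a128421094212839d074a0e949d28425073a4e9421283a5093a12939ce84250739d284a5094212842508421054a128421084a5094212842508421092a128421084a5094212842508421094a0a8421084a509420a842508421094a128421082a5094212842508421094a12842109420e84a5073a0e74a5284250739d29420e839d074a1294a4e841d0939d29420e849d073a12939d2841d074a52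

theorem ok2 : okN n2 = true := Cfsg.Agent.Co0Q.okz_of (by (first | (rewrite [Cfsg.Agent.KO599ffcb.e24, Cfsg.Agent.KO599ffcb.e27, Cfsg.Agent.KO599ffcb.e29]; decide +kernel) | decide +kernel))

def n3 : ℕ := 0xac62f8c62f7c6318be2f8cdf18c6337be719bdf18bdef7c5f19c62f7ce718c5af8c62f7b62d8be338be718c62f8c62f8c62f7c5b18ce338bdf16c5af7bdf17cdf18ce6f7c6717c62f7cdf18b6338b62f7c6318be2f8be718c5af8c62f8c5b37c5b18be2f6be718c62f7be717ce718bdef9c5f17c62f9bdf18c6338c62f7c6316bdb36bdf18c62f7cdf19bdf18be739c5f17c62f7bdf18b62f8c5af9c6318be338bdf18b62f8c6338c6337c62d8be2f8bdf16b62f8c62f8c62f7c6316ce2f8be6d8b62f8c5b38c62f9c5b18be2f8bded8c62f8b5af8c6337c6318cdaf8bdf18c62f8c62f8b62f9c62d8ce2f6bdf18c62f8c6336c5af7b6318ce2f8bdf18c62f9bdf17bdf18bdef7c5f17b62f7bdf57bdf17be718bdf37c6717c6337be718c62f6b6337c6318be338bded8c62f8c62f6c62f9c6318bdaf8be716c62f7cdf17bdf18cdef7c5f19c6339bdf18c62f8c6339b6316be2f8bdf18c5af9bdf17bdf18bdef7c5f17d62f7bded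

theorem ok3 : okN n3 = true := Cfsg.Agent.Co0Q.okz_of (by decide +kernel)

def n4 : ℕ := 0x9c6338c6318be738c6317c6318c66f8bded7bdef9c6319cdef8bdf37be318cdf17bdf37c5b19be6f8bdef7be318be6d7cdf37c6317bdef8cdef7be318cded7be6f7c6317bdf38be6f7be318ce719bdef7c62d7cdef8bdef7be318bdf19bdef9c5b17bdf38cdef7be318bded9bdef7c6317be6f8bdef9ce317c62f8c6318adef8c6319c6318c5f38bdf17ce6f7c5b17cdef8bdef9be319c5af8c5b16bdef8c5b17c6318c5ef8bdf17bdf39c62d7bdef8be6f9be319c62f6b6318bdef6c6317c5b18c5ef8bdf17cdef7c62d7be738bdf37be318be717bdef7c5b17bdef8be737ce318bdf19be737c6317bdef8bdf37bdb17c62f8c6318cdef8c6315c6318c5f38bdf17be6f7c62d9bdef8cdef7ce318be717bdef7c6319bdf38bdef9bdb18cdf17cdef9c6317bdef8bdef7cdb19b62f8c6318bdef8c6317b62d6c5ef9c62f8c62d8bdef8b62d7c6318b5ef8bdf17bdef7c6317ce6f8ce6f7bdb17c62f8c6318cdef8c6319c6318c5eb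

theorem ok4 : okN n4 = true := Cfsg.Agent.Co0Q.okz_of (by (first | (rewrite [Cfsg.Agent.KO599ffcb.e24, Cfsg.Agent.KO599ffcb.e27, Cfsg.Agent.KO599ffcb.e29]; decide +kernel) | decide +kernel))

def n5 : ℕ := 0x9c6318c6318c5ef8c6337ce338ce319b6318c62d8c5ef8b62f7be2f6be318bdf37be6f7be317bdf18c6719b5ef8bdef7bdef9ce317ce718c5f17b5ef8be737cdef7be317cdf18c5ed7c5ef8bdf37bdf39be319bdf18b5f17c5ef8be6f7bdef7be317be718b5f19c5f38ce6f7bdef7be319bdf18c5f17b66f9c5b16c6316c5ef8c62f7bdaf8be318cdf39bdef7be317be6d8c5f17c5ef7c6318c6318c5738c62f9be2f8be318bdef9be6f7be317cdf18b5f17c66f8cdef7cdef7ce317bdf18b6717c5ef8bdef9bdef7ce319bdf18c5ed9c5ef7c6318c6318c66b8c62f9be2f8be318bdef7bdef7be319cded8c6717c5f37c6318c6318c6738c62f5be2f8be319c6318b5b18c5ef6c5af7be2f8be318bdef7cdef9be317bded8c5f19c66f8bdef7bdf37be317be718c66d7c66f8be6f7be737ce317bded8c5f17c5ef8bdef9cdf37be317bdf18c5f17b5f39c62d8c6318b5ef8c62f7be2f8bdad8cdef7be6f9be317bdf18c5ed7c5f3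

theorem ok5 : okN n5 = true := Cfsg.Agent.Co0Q.okz_of (by (first | (rewrite [Cfsg.Agent.KO599ffcb.e24, Cfsg.Agent.KO599ffcb.e27, Cfsg.Agent.KO599ffcb.e29]; decide +kernel) | decide +kernel))

def n6 : ℕ := 0xac62f8be2f8c6718c6318cdef8be317be717c5f17ce2f9cdef9c6317c5ef8c5af8ce338c5ed8c6318bdef8bdb18c62f8ce2f8b5f18c5b18bdef8ce2d8c62f6be336c5f18b6318bdef8ce318c62f8be2f8c5ed8c62d6bdf38ce318c62f8bdb38c5f18c6316be6f8be2d7bdf17c6719ce337bdef7c6319c5ef8c62f8ce2f6c5f16c62d8be6f8be318c62f6be2f8b5f18c6318be738bdb19bdf17c5f17bdaf7bdef7d6317c5ef8c6338be2f8c5ed8b5b18be6f8be317bdf17c5f17be2f7cdf37c6319c6737cdf17c5f19be2f7be6f9c6317c66f8c62f8be338c5f16c5b18bdf36be318b6338be338b5f18c62d8bdef8be318c6338bdaf8c5f16c6318bdef8cdb19bdf17c5f17beaf7bdef7b6317c5ef7be719c6717be2f7be737c6317c5ef8c6336ce2f8c5f18c6316bdef6be318b5af8be2f8c5f18c6318be6f6ce318c5b38be2f6c5f18c6318bdf38be2d7cdf19c5f17be339bdef7c6317c5f38b62f8cdaf8c5f18b6318bdf38be31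

theorem ok6 : okN n6 = true := Cfsg.Agent.Co0Q.okz_of (by (first | (rewrite [Cfsg.Agent.KO599ffcb.e24, Cfsg.Agent.KO599ffcb.e27, Cfsg.Agent.KO599ffcb.e29]; decide +kernel) | decide +kernel))

def n7 : ℕ := 0xac6318be318c62f8be2f8cdef8c6718c6318ce316c62f8be2f8bdf36b5f18c6316be318b5af8be2f8be738c5f18c5b18bdb16c62f8ce2f8be6f8c5f18c6318be2d8c62f8bdb38be6f8b5f18c6316ce318c62f6cdaf8bdef8c5f17cdef9c6737bdf17c5f17c6319be2f8b62d8ce318c62f8be2f8be6f8c5ed7bdef7c5f39cdf19c5f17c6317be338c6318be318c5af8ce338bdef6c5ed7bdf37c66f7be719c5f17c6317ce2f8b6318be318b6338ce2f8bdef8b5f19bdef7c5ef7bdf17c5f17b6317beaf7cdef7c5ef9be717c6719c6317be2f7be737c5ef7cdf17c6717c6319be2f8b5b18be318c62f6be338bdf38c5f18c5b18ce2d8c5b38be2f8bdef8c5f19bdef7c5ef7bdf17c5f17d6317bdaf8c6318be318c6336be2f6be6f6c5f18c62d8be2d8c62f8ce2f6bdf38c5f18c62d6be316c6338be338bdef8c5f18c6318cdb18b62f8be336bdef8c5f18c6318bdb18c6338bdaf8bdf38c5ed7be6f9c5ef7bdf17c5f19c6317ce33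

theorem ok7 : okN n7 = true := Cfsg.Agent.Co0Q.okz_of (by (first | (rewrite [Cfsg.Agent.KO599ffcb.e24, Cfsg.Agent.KO599ffcb.e27, Cfsg.Agent.KO599ffcb.e29]; decide +kernel) | decide +kernel))

/-- the matrices -/
def M : ℕ → List (List ℤ)
  | 0 => dec n0
  | 1 => dec n1
  | 2 => dec n2
  | 3 => dec n3
  | 4 => dec n4
  | 5 => dec n5
  | 6 => dec n6
  | _ => dec n7

/-- the elements -/
def e : ℕ → Co0
  | 0 => mk (ok_of_okN ok0)
  | 1 => mk (ok_of_okN ok1)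
  | 2 => mk (ok_of_okN ok2)
  | 3 => mk (ok_of_okN ok3)
  | 4 => mk (ok_of_okN ok4)
  | 5 => mk (ok_of_okN ok5)
  | 6 => mk (ok_of_okN ok6)
  | _ => mk (ok_of_okN ok7)

theorem rep : ∀ i, Rep (e i) (M i)
  | 0 => rep_mk (ok_of_okN ok0)
  | 1 => rep_mk (ok_of_okN ok1)
  | 2 => rep_mk (ok_of_okN ok2)
  | 3 => rep_mk (ok_of_okN ok3)
  | 4 => rep_mk (ok_of_okN ok4)
  | 5 => rep_mk (ok_of_okN ok5)
  | 6 => rep_mk (ok_of_okN ok6)
  | _ + 7 => rep_mk (ok_of_okN ok7)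

/-- the fixed vector -/
def lV : List ℤ := [-1, -1, -1, -1, -1, -1, -1, -1, -1, -1, -1, -1, -1, -1, -1, -1, -1, -1, -1, -1, -1, -1, -1, -5]

theorem fix0 : eqL (apZ (dec n0) lV) lV = true := by decide +kernel

theorem fix1 : eqL (apZ (dec n1) lV) lV = true := by decide +kernel

theorem fix2 : eqL (apZ (dec n2) lV) lV = true := by decide +kernel

theorem fix3 : eqL (apZ (dec n3) lV) lV = true := by decide +kernel

theorem fix4 : eqL (apZ (dec n4) lV) lV = true := by decide +kernel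

theorem fix5 : eqL (apZ (dec n5) lV) lV = true := by decide +kernel

theorem fix6 : eqL (apZ (dec n6) lV) lV = true := by decide +kernel

theorem fix7 : eqL (apZ (dec n7) lV) lV = true := by decide +kernel

theorem fixM : ∀ i, ap (M i) lV = lV
  | 0 => (apZ_eq _ _).symm.trans (eqL_eq fix0)
  | 1 => (apZ_eq _ _).symm.trans (eqL_eq fix1)
  | 2 => (apZ_eq _ _).symm.trans (eqL_eq fix2)
  | 3 => (apZ_eq _ _).symm.trans (eqL_eq fix3)
  | 4 => (apZ_eq _ _).symm.trans (eqL_eq fix4)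
  | 5 => (apZ_eq _ _).symm.trans (eqL_eq fix5)
  | 6 => (apZ_eq _ _).symm.trans (eqL_eq fix6)
  | _ + 7 => (apZ_eq _ _).symm.trans (eqL_eq fix7)

/-- the words and the traces -/
def tab : List (List ℕ × List ℤ) := [
  ([], [192, 192, 192, 192, 192, 192]),
  ([0], [32, 64, 32, 192, 32, 64]),
  ([7], [48, 48, 192, 48, 48, 192]),
  ([0, 0], [64, 192, 64, 192, 64, 192]),
  ([0, 2], [40, -24, 64, -24, 40, 192]),
  ([1, 7], [16, 48, 64, 48, 16, 192]),
  ([2, 7], [16, 16, 32, 48, 16, 64]),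
  ([3, 7], [0, 32, 0, 32, 0, 32]),
  ([0, 1, 2], [8, 40, 32, -24, 8, 64]),
  ([0, 1, 4], [0, 192, 0, 192, 0, 192]),
  ([0, 1, 7], [16, 32, 16, 64, 16, 32]),
  ([0, 2, 7], [0, 0, 192, 0, 0, 192]),
  ([1, 3, 7], [8, 8, 16, 40, 8, 32]),
  ([1, 7, 2], [0, 48, 0, 48, 0, 192]),
  ([1, 7, 3], [8, 24, 8, -8, 32, 24]),
  ([2, 3, 7], [0, 16, 0, 16, 0, 16]),
  ([3, 5, 7], [32, 32, 32, 32, 192, 32]),
  ([0, 0, 0, 2], [24, -24, 192, -24, 24, 192]),
  ([0, 1, 2, 3], [8, -8, 8, -8, 192, -8]),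
  ([0, 1, 2, 7], [0, 0, 0, 0, 0, 192]),
  ([0, 1, 3, 2], [24, -8, 24, -8, 64, -8]),
  ([0, 1, 3, 7], [0, 0, 24, 0, 0, -24]),
  ([0, 1, 7, 3], [16, 16, 8, 16, 24, -8]),
  ([0, 2, 3, 7], [8, 8, 32, 8, 48, 32]),
  ([0, 2, 7, 3], [24, 24, 24, 24, 24, 24]),
  ([0, 7, 2, 7], [8, -24, 64, -24, 8, 192]),
  ([1, 2, 5, 7], [16, 16, 16, 16, 16, 16]),
  ([1, 3, 5, 7], [0, 16, 24, 16, 40, -8]),
  ([2, 5, 7, 3], [0, 0, 24, 0, 0, 24]),
  ([2, 7, 3, 7], [16, 0, 8, 0, 16, -24]),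
  ([3, 4, 5, 7], [8, 24, 8, 24, 8, 24]),
  ([3, 4, 7, 5], [8, 8, 8, 8, 8, 8]),
  ([4, 2, 5, 4, 7, 3], [24, 24, 24, 24, 24, -24])]

theorem tab_length : tab.length = 33 := by decide +kernel

theorem tab_nodup : (tab.map Prod.snd).Nodup := by decide +kernel

def chk (a b : ℕ) : Bool := ((tab.drop a).take b).all fun x => eqL (invW M x.1) x.2

private noncomputable def _root_.Cfsg.Agent.KO599ffcb.k38 : type_of% @List.range := @(fun x0 => @Cfsg.Agent.KO599ffcb.k9 @x0 [])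
private theorem _root_.Cfsg.Agent.KO599ffcb.e38 : @List.range = @_root_.Cfsg.Agent.KO599ffcb.k38 := by delta _root_.Cfsg.Agent.KO599ffcb.k38; rewrite [← Cfsg.Agent.KO599ffcb.e9]; rfl'
private noncomputable def _root_.Cfsg.Agent.KO599ffcb.k39.{ku0} : type_of% @List.all.{ku0} := @(fun x0 x1 x2 => @List.rec.{(ku0+1), ku0} @x0 @(fun x3 => (@x0 → @Bool) → @Bool) @(fun x3 => @Bool.true) @(fun x3 x4 x5 x6 => @Bool.rec.{1} @(fun x7 => @Bool) @Bool.false (@x5 @x6) (@x6 @x3)) @x1 @x2)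
private theorem _root_.Cfsg.Agent.KO599ffcb.e39.{ku0} : @List.all.{ku0} = @_root_.Cfsg.Agent.KO599ffcb.k39.{ku0} := by delta _root_.Cfsg.Agent.KO599ffcb.k39; funext a0 a1 a2; refine (congrFun (_root_.Cfsg.Agent.KO599ffcb.e4 (fun a1 a2 => @List.all.{ku0} a0 a1 a2) ?_ (fun c0 c1 => ?_) a1) a2 :) <;> (rfl')
private noncomputable def _root_.Cfsg.Agent.KO599ffcb.k41.{ku0} : type_of% @List.take.{ku0} := @(fun x0 x1 x2 => @Nat.rec.{(ku0+1)} @(fun x3 => (@List.{ku0} @x0) → @List.{ku0} @x0) @(fun x3 => []) @(fun x3 x4 x5 => @List.rec.{(ku0+1), ku0} @x0 @(fun x6 => @List.{ku0} @x0) [] @(fun x6 x7 x8 => @x6 :: (@x4 @x7)) @x5) @x1 @x2)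
private theorem _root_.Cfsg.Agent.KO599ffcb.e41.{ku0} : @List.take.{ku0} = @_root_.Cfsg.Agent.KO599ffcb.k41.{ku0} := by delta _root_.Cfsg.Agent.KO599ffcb.k41; funext a0 a1 a2; refine (congrFun (_root_.Cfsg.Agent.KO599ffcb.e8 (fun a1 a2 => @List.take.{ku0} a0 a1 a2) ?_ (fun c0 => ?_) a1) a2 :) <;> [(funext b0; (rfl')); (funext b0; (cases b0 with | @nil  => (rfl') | @cons b0_0 b0_1 => (rfl')))]
private noncomputable def _root_.Cfsg.Agent.KO599ffcb.k43.{ku0} : type_of% @List.drop.{ku0} := @(fun x0 x1 x2 => @Nat.rec.{(ku0+1)} @(fun x3 => (@List.{ku0} @x0) → @List.{ku0} @x0) @(fun x3 => @x3) @(fun x3 x4 x5 => @List.rec.{(ku0+1), ku0} @x0 @(fun x6 => @List.{ku0} @x0) [] @(fun x6 x7 x8 => @x4 @x7) @x5) @x1 @x2)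
private theorem _root_.Cfsg.Agent.KO599ffcb.e43.{ku0} : @List.drop.{ku0} = @_root_.Cfsg.Agent.KO599ffcb.k43.{ku0} := by delta _root_.Cfsg.Agent.KO599ffcb.k43; funext a0 a1 a2; refine (congrFun (_root_.Cfsg.Agent.KO599ffcb.e8 (fun a1 a2 => @List.drop.{ku0} a0 a1 a2) ?_ (fun c0 => ?_) a1) a2 :) <;> [(funext b0; (rfl')); (funext b0; (cases b0 with | @nil  => (rfl') | @cons b0_0 b0_1 => (rfl')))]
private noncomputable def _root_.Cfsg.Agent.KO599ffcb.k45 : (by first | exact type_of% @Cfsg.Agent.CoOneType.CoEval.eqL | exact Unit : Sort _) := by first | (refine @Subtype.val _ (fun g => @Cfsg.Agent.CoOneType.CoEval.eqL = @g) (@Subtype.mk _ _ (@(fun (x0 : @List.{0} @Int) (x1 : @List.{0} @Int) => @List.rec.{1, 0} @Int @(fun (x2 : @List.{0} @Int) => ((@List.{0} @Int) → @Bool)) @(fun (x2 : @List.{0} @Int) => @List.rec.{1, 0} @Int @(fun (x3 : @List.{0} @Int) => (((@Nat.hasNotBit (nat_lit 1) (@List.ctorIdx.{0} @Int @x3))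 → @Bool) → @Bool)) @(fun (x3 : ((@Nat.hasNotBit (nat_lit 1) (@List.ctorIdx.{0} @Int (@List.nil.{0} @Int))) → @Bool)) => @Bool.true) @(fun (x3 : @Int) (x4 : @List.{0} @Int) (x5 : (((@Nat.hasNotBit (nat_lit 1) (@List.ctorIdx.{0} @Int @x4)) → @Bool) → @Bool)) (x6 : ((@Nat.hasNotBit (nat_lit 1) (@List.ctorIdx.{0} @Int (@List.cons.{0} @Int @x3 @x4))) → @Bool)) => @x6 (@Nat.ne_of_beq_eq_false (@Nat.land (@OfNat.ofNat.{0} @Nat (nat_lit 1) (@instOfNatNat (nat_lit 1))) (@Nat.shiftRight (nat_lit 1) (nat_lit 1))) (@OfNat.ofNat.{0} @Nat (nat_lit 1) (@instOfNatNat (nat_lit 1))) (@Eq.refl.{1} @Bool @Bool.false))) @x2 @(fun (x3 : @Nat.hasNotBit (nat_lit 1) (@List.ctorIdx.{0} @Int @x2)) => @Bool.false)) @(fun (x2 : @Int) (x3 : @List.{0} @Int) (x4 : ((@List.{0} @Int) → @Bool)) (x5 : @List.{0} @Int) => @List.rec.{1, 0} @Int @(fun (x6 : @List.{0} @Int) => (((@Nat.hasNotBit (nat_lit 2) (@List.ctorIdx.{0} @Int @x6)) → @Bool) →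 @Bool)) @(fun (x6 : ((@Nat.hasNotBit (nat_lit 2) (@List.ctorIdx.{0} @Int (@List.nil.{0} @Int))) → @Bool)) => @x6 (@Nat.ne_of_beq_eq_false (@Nat.land (@OfNat.ofNat.{0} @Nat (nat_lit 1) (@instOfNatNat (nat_lit 1))) (@Nat.shiftRight (nat_lit 2) (nat_lit 0))) (@OfNat.ofNat.{0} @Nat (nat_lit 1) (@instOfNatNat (nat_lit 1))) (@Eq.refl.{1} @Bool @Bool.false))) @(fun (x6 : @Int) (x7 : @List.{0} @Int) (x8 : (((@Nat.hasNotBit (nat_lit 2) (@List.ctorIdx.{0} @Int @x7)) → @Bool) → @Bool)) (x9 : ((@Nat.hasNotBit (nat_lit 2) (@List.ctorIdx.{0} @Int (@List.cons.{0} @Int @x6 @x7))) → @Bool)) => @Bool.rec.{1} @(fun (x10 : @Bool) => @Bool) @Bool.false (@x4 @x7) (@Decidable.rec.{1} (@Eq.{1} @Int @x2 @x6) @(fun (x10 : @Decidable (@Eq.{1} @Int @x2 @x6)) => @Bool) @(fun (x10 : @Not (@Eq.{1} @Int @x2 @x6)) => @Bool.false) @(fun (x10 : @Eq.{1} @Int @x2 @x6) => @Bool.true) (@Cfsg.Agent.KO599ffcb.k18 @x2 @x6))) @x5 @(fun (x6 : @Nat.hasNotBit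 (nat_lit 2) (@List.ctorIdx.{0} @Int @x5)) => @Bool.false)) @x0 @x1)) ?_); rewrite [← Cfsg.Agent.KO599ffcb.e18]; funext a0 a1; refine (congrFun (_root_.Cfsg.Agent.KO599ffcb.e4 (fun a0 a1 => @Cfsg.Agent.CoOneType.CoEval.eqL a0 a1) ?_ (fun c0 c1 => ?_) a0) a1 :) <;> [(funext b0; (cases b0 with | @nil  => (rfl') | @cons b0_0 b0_1 => (rfl'))); (funext b0; (cases b0 with | @nil  => (rfl') | @cons b0_0 b0_1 => (rfl')))]) | exact @Cfsg.Agent.CoOneType.CoEval.eqL | exact ()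
private theorem _root_.Cfsg.Agent.KO599ffcb.e45 : (by first | exact @Cfsg.Agent.CoOneType.CoEval.eqL = @_root_.Cfsg.Agent.KO599ffcb.k45 | exact True : Prop) := by first | (delta _root_.Cfsg.Agent.KO599ffcb.k45; exact @Subtype.property _ (fun g => @Cfsg.Agent.CoOneType.CoEval.eqL = @g) _) | rfl | trivial
private noncomputable def _root_.Cfsg.Agent.KO599ffcb.k46 : type_of% @Int.ediv := @(fun x0 x1 => @Int.rec.{1} @(fun x2 => ℤ) @(fun x2 => @Int.rec.{1} @(fun x3 => ℤ) @(fun x3 => @Int.ofNat (@Nat.div @x2 @x3)) @(fun x3 => @Nat.rec.{1} @(fun x4 => ℤ) (@Int.ofNat (nat_lit 0)) @(fun x4 x5 => @Int.negSucc @x4) (@Nat.div @x2 (@Nat.succ @x3))) @x1) @(fun x2 => @Int.rec.{1} @(fun x3 => ℤ) @(fun x3 => @Nat.rec.{1} @(fun x4 => ℤ) (@Int.ofNat (nat_lit 0)) @(fun x4 x5 => @Int.negSucc (@Nat.div @x2 (@Nat.succ @x4))) @x3) @(fun x3 => @Int.ofNat (@Nat.succ (@Nat.div @x2 (@Nat.succ @x3)))) @x1) @x0)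
private theorem _root_.Cfsg.Agent.KO599ffcb.e46 : @Int.ediv = @_root_.Cfsg.Agent.KO599ffcb.k46 := by delta _root_.Cfsg.Agent.KO599ffcb.k46; rfl'
private noncomputable def _root_.Cfsg.Agent.KO599ffcb.k48 : (by first | exact type_of% @Cfsg.Agent.SporadicStructure.Co0Matrix.dotL | exact Unit : Sort _) := by first | (refine @Subtype.val _ (fun g => @Cfsg.Agent.SporadicStructure.Co0Matrix.dotL = @g) (@Subtype.mk _ _ (@(fun x0 x1 => @List.rec.{1, 0} ℤ @(fun x2 => (@List.{0} ℤ) → ℤ) @(fun x2 => @Int.ofNat (nat_lit 0)) @(fun x2 x3 x4 x5 => @List.rec.{1, 0} ℤ @(fun x6 => ((@Nat.hasNotBit (nat_lit 2) (@List.ctorIdx.{0} _ @x6)) → ℤ) → ℤ) @(fun x6 => @x6 (@Nat.ne_of_beq_eq_false _ _ (@Eq.refl.{1} _ @Bool.false))) @(fun x6 x7 x8 x9 => @Cfsg.Agent.KO599ffcb.k0 (@Cfsg.Agent.KO599ffcb.k14 @x2 @x6) (@x4 @x7)) @x5 @(fun x6 => @Int.ofNat (nat_lit 0))) @x0 @x1)) ?_); rewrite [← Cfsg.Agent.KO599ffcb.e14, ← Cfsg.Agent.KO599ffcb.e0];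 funext a0 a1; refine (congrFun (_root_.Cfsg.Agent.KO599ffcb.e4 (fun a0 a1 => @Cfsg.Agent.SporadicStructure.Co0Matrix.dotL a0 a1) ?_ (fun c0 c1 => ?_) a0) a1 :) <;> [(funext b0; (rfl')); (funext b0; (cases b0 with | @nil  => (rfl') | @cons b0_0 b0_1 => (rfl')))]) | exact @Cfsg.Agent.SporadicStructure.Co0Matrix.dotL | exact ()
private theorem _root_.Cfsg.Agent.KO599ffcb.e48 : (by first | exact @Cfsg.Agent.SporadicStructure.Co0Matrix.dotL = @_root_.Cfsg.Agent.KO599ffcb.k48 | exact True : Prop) := by first | (delta _root_.Cfsg.Agent.KO599ffcb.k48; exact @Subtype.property _ (fun g => @Cfsg.Agent.SporadicStructure.Co0Matrix.dotL = @g) _) | rfl | trivial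
private noncomputable def _root_.Cfsg.Agent.KO599ffcb.k49 : (by first | exact type_of% @Cfsg.Agent.CoOneType.CoEval.ap | exact Unit : Sort _) := by first | (refine @Subtype.val _ (fun g => @Cfsg.Agent.CoOneType.CoEval.ap = @g) (@Subtype.mk _ _ (@(fun x0 x1 => @Cfsg.Agent.KO599ffcb.k6.{0, 0} _ _ @(fun x2 => @Cfsg.Agent.KO599ffcb.k46 (@Cfsg.Agent.KO599ffcb.k48 @x1 @x2) (@Int.ofNat (nat_lit 8))) @x0)) ?_); rewrite [← Cfsg.Agent.KO599ffcb.e48, ← Cfsg.Agent.KO599ffcb.e46, ← Cfsg.Agent.KO599ffcb.e6.{0, 0}]; (try delta Cfsg.Agent.CoOneType.CoEval.ap); (try generalize @Cfsg.Agent.SporadicStructure.Co0Matrix.dotL = g0); rfl') | exact @Cfsg.Agent.CoOneType.CoEval.ap | exact ()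
private theorem _root_.Cfsg.Agent.KO599ffcb.e49 : (by first | exact @Cfsg.Agent.CoOneType.CoEval.ap = @_root_.Cfsg.Agent.KO599ffcb.k49 | exact True : Prop) := by first | (delta _root_.Cfsg.Agent.KO599ffcb.k49; exact @Subtype.property _ (fun g => @Cfsg.Agent.CoOneType.CoEval.ap = @g) _) | rfl | trivial
private noncomputable def _root_.Cfsg.Agent.KO599ffcb.k50 : (by first | exact type_of% @Cfsg.Agent.Co0Q.dg | exact Unit : Sort _) := by first | (refine @Subtype.val _ (fun g => @Cfsg.Agent.Co0Q.dg = @g) (@Subtype.mk _ _ (@(fun x0 x1 => @Nat.mod (@Nat.shiftRight @x0 (@Nat.mul (nat_lit 160) @x1)) (nat_lit 22300745198530623141535718272648361505980416))) ?_); rfl') | exact @Cfsg.Agent.Co0Q.dg | exact ()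
private theorem _root_.Cfsg.Agent.KO599ffcb.e50 : (by first | exact @Cfsg.Agent.Co0Q.dg = @_root_.Cfsg.Agent.KO599ffcb.k50 | exact True : Prop) := by first | (delta _root_.Cfsg.Agent.KO599ffcb.k50; exact @Subtype.property _ (fun g => @Cfsg.Agent.Co0Q.dg = @g) _) | rfl | trivial
private noncomputable def _root_.Cfsg.Agent.KO599ffcb.k51 : (by first | exact type_of% @Cfsg.Agent.Co0Q.unp | exact Unit : Sort _) := by first | (refine @Subtype.val _ (fun g => @Cfsg.Agent.Co0Q.unp = @g) (@Subtype.mk _ _ (@(fun x0 => @Cfsg.Agent.KO599ffcb.k6.{0, 0} _ _ @(fun x1 => @Nat.rec.{1} @(fun x2 => ℤ) (@Int.ofNat (@Nat.sub (@Cfsg.Agent.KO599ffcb.k50 @x0 @x1) (nat_lit 11150372599265311570767859136324180752990208))) @(fun x2 x3 => @Int.negSucc @x2) (@Nat.sub (nat_lit 11150372599265311570767859136324180752990208) (@Cfsg.Agent.KO599ffcb.k50 @x0 @x1))) (@Cfsg.Agent.KO599ffcb.k9 (nat_lit 24) []))) ?_); rewrite [← Cfsg.Agent.KO599ffcb.e9,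 ← Cfsg.Agent.KO599ffcb.e50, ← Cfsg.Agent.KO599ffcb.e6.{0, 0}]; (try delta Cfsg.Agent.Co0Q.unp); (try generalize @Cfsg.Agent.Co0Q.dg = g0); rfl') | exact @Cfsg.Agent.Co0Q.unp | exact ()
private theorem _root_.Cfsg.Agent.KO599ffcb.e51 : (by first | exact @Cfsg.Agent.Co0Q.unp = @_root_.Cfsg.Agent.KO599ffcb.k51 | exact True : Prop) := by first | (delta _root_.Cfsg.Agent.KO599ffcb.k51; exact @Subtype.property _ (fun g => @Cfsg.Agent.Co0Q.unp = @g) _) | rfl | trivial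
private noncomputable def _root_.Cfsg.Agent.KO599ffcb.k52 : (by first | exact type_of% @Cfsg.Agent.Co0Q.lp | exact Unit : Sort _) := by first | (refine @Subtype.val _ (fun g => @Cfsg.Agent.Co0Q.lp = @g) (@Subtype.mk _ _ (@(fun x0 => @List.rec.{1, 0} ℤ @(fun x1 => ℕ → ℕ → ℕ → ℤ) @(fun x1 x2 x3 => @Nat.rec.{1} @(fun x4 => ℤ) (@Int.ofNat (@Nat.sub @x2 @x3)) @(fun x4 x5 => @Int.negSucc @x4) (@Nat.sub @x3 @x2)) @(fun x1 x2 x3 x4 x5 x6 => @Int.rec.{1} @(fun x7 => ℤ) @(fun x7 => @x3 (@Nat.shiftRight @x4 (nat_lit 160)) (@Nat.add @x5 (@Nat.mul @x7 (@Nat.mod @x4 (nat_lit 22300745198530623141535718272648361505980416)))) @x6) @(fun x7 => @x3 (@Nat.shiftRight @x4 (nat_lit 160)) @x5 (@Nat.add @x6 (@Nat.mul (@Nat.succ @x7) (@Nat.mod @x4 (nat_lit 22300745198530623141535718272648361505980416))))) @x1) @x0)) ?_); rfl') | exact @Cfsg.Agent.Co0Q.lp | exact ()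
private theorem _root_.Cfsg.Agent.KO599ffcb.e52 : (by first | exact @Cfsg.Agent.Co0Q.lp = @_root_.Cfsg.Agent.KO599ffcb.k52 | exact True : Prop) := by first | (delta _root_.Cfsg.Agent.KO599ffcb.k52; exact @Subtype.property _ (fun g => @Cfsg.Agent.Co0Q.lp = @g) _) | rfl | trivial
private noncomputable def _root_.Cfsg.Agent.KO599ffcb.k53.{ku0} : type_of% @List.replicate.{ku0} := @(fun x0 x1 x2 => @Nat.rec.{(ku0+1)} @(fun x3 => @x0 → @List.{ku0} @x0) @(fun x3 => []) @(fun x3 x4 x5 => @x5 :: (@x4 @x5)) @x1 @x2)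
private theorem _root_.Cfsg.Agent.KO599ffcb.e53.{ku0} : @List.replicate.{ku0} = @_root_.Cfsg.Agent.KO599ffcb.k53.{ku0} := by delta _root_.Cfsg.Agent.KO599ffcb.k53; funext a0 a1 a2; refine (congrFun (_root_.Cfsg.Agent.KO599ffcb.e8 (fun a1 a2 => @List.replicate.{ku0} a0 a1 a2) ?_ (fun c0 => ?_) a1) a2 :) <;> (rfl')
private noncomputable def _root_.Cfsg.Agent.KO599ffcb.k54 : (by first | exact type_of% @Cfsg.Agent.Co0Q.cv | exact Unit : Sort _) := by first | (refine @Subtype.val _ (fun g => @Cfsg.Agent.Co0Q.cv = @g) (@Subtype.mk _ _ (@(fun x0 => @Int.rec.{1} @(fun x1 => ℕ) @(fun x1 => @Nat.add @x1 (nat_lit 1024)) @(fun x1 => @Nat.sub (nat_lit 1023) @x1) @x0)) ?_); rfl') | exact @Cfsg.Agent.Co0Q.cv | exact ()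
private theorem _root_.Cfsg.Agent.KO599ffcb.e54 : (by first | exact @Cfsg.Agent.Co0Q.cv = @_root_.Cfsg.Agent.KO599ffcb.k54 | exact True : Prop) := by first | (delta _root_.Cfsg.Agent.KO599ffcb.k54; exact @Subtype.property _ (fun g => @Cfsg.Agent.Co0Q.cv = @g) _) | rfl | trivial
private noncomputable def _root_.Cfsg.Agent.KO599ffcb.k55 : (by first | exact type_of% @Cfsg.Agent.Co0Q.zq | exact Unit : Sort _) := by first | (refine @Subtype.val _ (fun g => @Cfsg.Agent.Co0Q.zq = @g) (@Subtype.mk _ _ (@(fun x0 => @List.rec.{1, 0} ℤ @(fun x1 => (@List.{0} ℕ) → @List.{0} ℕ) @(fun x1 => []) @(fun x1 x2 x3 x4 => @List.rec.{1, 0} ℕ @(fun x5 => @List.{0} ℕ) [] @(fun x5 x6 x7 => (@Nat.add (@Cfsg.Agent.KO599ffcb.k54 @x1) (@Nat.shiftLeft @x5 (nat_lit 160))) :: (@x3 @x6)) @x4) @x0)) ?_); rewrite [← Cfsg.Agent.KO599ffcb.e54]; (try delta Cfsg.Agent.Co0Q.zq); (try generalize @Cfsg.Agent.Co0Q.cv = g0); rfl') | exact @Cfsg.Agent.Co0Q.zq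 | exact ()
private theorem _root_.Cfsg.Agent.KO599ffcb.e55 : (by first | exact @Cfsg.Agent.Co0Q.zq = @_root_.Cfsg.Agent.KO599ffcb.k55 | exact True : Prop) := by first | (delta _root_.Cfsg.Agent.KO599ffcb.k55; exact @Subtype.property _ (fun g => @Cfsg.Agent.Co0Q.zq = @g) _) | rfl | trivial
private noncomputable def _root_.Cfsg.Agent.KO599ffcb.k56 : (by first | exact type_of% @Cfsg.Agent.Co0Q.cn | exact Unit : Sort _) := by first | (refine @Subtype.val _ (fun g => @Cfsg.Agent.Co0Q.cn = @g) (@Subtype.mk _ _ (@(fun x0 => @List.rec.{1, 0} (@List.{0} ℤ) @(fun x1 => @List.{0} ℕ) (@Cfsg.Agent.KO599ffcb.k53.{0} _ (nat_lit 24) (nat_lit 0)) @(fun x1 x2 x3 => @Cfsg.Agent.KO599ffcb.k55 @x1 @x3) @x0)) ?_); rewrite [← Cfsg.Agent.KO599ffcb.e55, ← Cfsg.Agent.KO599ffcb.e53.{0}]; (try delta Cfsg.Agent.Co0Q.cn); (try generalize @Cfsg.Agent.Co0Q.zq = g0); rfl') | exact @Cfsg.Agent.Co0Q.cn | exact ()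
private theorem _root_.Cfsg.Agent.KO599ffcb.e56 : (by first | exact @Cfsg.Agent.Co0Q.cn = @_root_.Cfsg.Agent.KO599ffcb.k56 | exact True : Prop) := by first | (delta _root_.Cfsg.Agent.KO599ffcb.k56; exact @Subtype.property _ (fun g => @Cfsg.Agent.Co0Q.cn = @g) _) | rfl | trivial
private noncomputable def _root_.Cfsg.Agent.KO599ffcb.k57 : (by first | exact type_of% @Cfsg.Agent.Co0Q.cl | exact Unit : Sort _) := by first | (refine @Subtype.val _ (fun g => @Cfsg.Agent.Co0Q.cl = @g) (@Subtype.mk _ _ (@(fun x0 => @List.rec.{1, 0} ℕ @(fun x1 => @List.{0} ℤ) [] @(fun x1 x2 x3 => (@Nat.rec.{1} @(fun x4 => ℤ) (@Int.ofNat (@Nat.sub @x1 (@Nat.mul (nat_lit 1024) (@Cfsg.Agent.KO599ffcb.k1 (nat_lit 160) (nat_lit 24))))) @(fun x4 x5 => @Int.negSucc @x4) (@Nat.sub (@Nat.mul (nat_lit 1024) (@Cfsg.Agent.KO599ffcb.k1 (nat_lit 160) (nat_lit 24))) @x1)) :: @x3) (@Cfsg.Agent.KO599ffcb.k56 @x0))) ?_); rewrite [← Cfsg.Agent.KO599ffcb.e56,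 ← Cfsg.Agent.KO599ffcb.e1]; (try delta Cfsg.Agent.Co0Q.cl); (try generalize @Cfsg.Agent.Co0Q.jj = g0); (try generalize @Cfsg.Agent.Co0Q.cn = g1); rfl') | exact @Cfsg.Agent.Co0Q.cl | exact ()
private theorem _root_.Cfsg.Agent.KO599ffcb.e57 : (by first | exact @Cfsg.Agent.Co0Q.cl = @_root_.Cfsg.Agent.KO599ffcb.k57 | exact True : Prop) := by first | (delta _root_.Cfsg.Agent.KO599ffcb.k57; exact @Subtype.property _ (fun g => @Cfsg.Agent.Co0Q.cl = @g) _) | rfl | trivial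
private noncomputable def _root_.Cfsg.Agent.KO599ffcb.k58 : (by first | exact type_of% @Cfsg.Agent.Co0Q.off | exact Unit : Sort _) := by first | (refine @Subtype.val _ (fun g => @Cfsg.Agent.Co0Q.off = @g) (@Subtype.mk _ _ (@(fun x0 => @Cfsg.Agent.KO599ffcb.k0 (@Int.ofNat (@Nat.mul (@Nat.pow (nat_lit 2) (nat_lit 146)) (@Cfsg.Agent.KO599ffcb.k1 (nat_lit 160) (nat_lit 24)))) (@Int.rec.{1} @(fun x1 => ℤ) @(fun x1 => @Nat.rec.{1} @(fun x2 => ℤ) (@Int.ofNat (nat_lit 0)) @(fun x2 x3 => @Int.negSucc @x2) @x1) @(fun x1 => @Int.ofNat (@Nat.succ @x1)) (@Cfsg.Agent.KO599ffcb.k52 (@Cfsg.Agent.KO599ffcb.k57 @x0) (@Nat.mul (@Nat.pow (nat_lit 2) (nat_lit 143)) (@Cfsg.Agent.KO599ffcb.k1 (nat_lit 160) (nat_lit 24))) (nat_lit 0) (nat_lit 0))))) ?_); rewrite [← Cfsg.Agent.KO599ffcb.e57, ← Cfsg.Agent.KO599ffcb.e52, ← Cfsg.Agent.KO599ffcb.e1, ← Cfsg.Agent.KO599ffcb.e0]; (try delta Cfsg.Agent.Co0Q.off); (try generalize @Cfsg.Agent.Co0Q.jj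 = g0); (try generalize @Cfsg.Agent.Co0Q.lp = g1); (try generalize @Cfsg.Agent.Co0Q.cl = g2); rfl') | exact @Cfsg.Agent.Co0Q.off | exact ()
private theorem _root_.Cfsg.Agent.KO599ffcb.e58 : (by first | exact @Cfsg.Agent.Co0Q.off = @_root_.Cfsg.Agent.KO599ffcb.k58 | exact True : Prop) := by first | (delta _root_.Cfsg.Agent.KO599ffcb.k58; exact @Subtype.property _ (fun g => @Cfsg.Agent.Co0Q.off = @g) _) | rfl | trivial
private noncomputable def _root_.Cfsg.Agent.KO599ffcb.k59 : (by first | exact type_of% @Cfsg.Agent.Co0Q.stp | exact Unit : Sort _) := by first | (refine @Subtype.val _ (fun g => @Cfsg.Agent.Co0Q.stp = @g) (@Subtype.mk _ _ (@(fun x0 x1 => @Nat.rec.{1} @(fun x2 => ℕ) (nat_lit 0) @(fun x2 x3 => @Int.rec.{1} @(fun x4 => ℕ) @(fun x4 => @Bool.rec.{1} @(fun x5 => ℕ) (nat_lit 0) (@Nat.shiftRight @x4 (nat_lit 3)) (@Bool.rec.{1} @(fun x5 => @Bool) @Bool.false (@Nat.beq (@Nat.land @x4 @Cfsg.Agent.Co0Q.msk)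 (nat_lit 0)) (@Bool.rec.{1} @(fun x5 => @Bool) @Bool.false (@Cfsg.Agent.KO599ffcb.k22 @x0) (@Nat.beq (@Cfsg.Agent.KO599ffcb.k23.{0} _ @x0) (nat_lit 24))))) @(fun x4 => nat_lit 0) (@Cfsg.Agent.KO599ffcb.k0 (@Cfsg.Agent.KO599ffcb.k52 (@Cfsg.Agent.KO599ffcb.k57 @x0) (@Nat.succ @x2) (nat_lit 0) (nat_lit 0)) (@Cfsg.Agent.KO599ffcb.k58 @x0))) @x1)) ?_); rewrite [← Cfsg.Agent.KO599ffcb.e58, ← Cfsg.Agent.KO599ffcb.e57, ← Cfsg.Agent.KO599ffcb.e52, ← Cfsg.Agent.KO599ffcb.e0, ← Cfsg.Agent.KO599ffcb.e23.{0}, ← Cfsg.Agent.KO599ffcb.e22]; (try delta Cfsg.Agent.Co0Q.stp); (try generalize @Cfsg.Agent.Co0Q.msk = g0); (try generalize @Cfsg.Agent.Co0Q.shq = g1); (try generalize @Cfsg.Agent.Co0Q.lp = g2); (try generalize @Cfsg.Agent.Co0Q.cl = g3); (try generalize @Cfsg.Agent.Co0Q.off = g4); rfl') | exact @Cfsg.Agent.Co0Q.stp | exact ()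
private theorem _root_.Cfsg.Agent.KO599ffcb.e59 : (by first | exact @Cfsg.Agent.Co0Q.stp = @_root_.Cfsg.Agent.KO599ffcb.k59 | exact True : Prop) := by first | (delta _root_.Cfsg.Agent.KO599ffcb.k59; exact @Subtype.property _ (fun g => @Cfsg.Agent.Co0Q.stp = @g) _) | rfl | trivial
private noncomputable def _root_.Cfsg.Agent.KO599ffcb.k60 : (by first | exact type_of% @Cfsg.Agent.Co0Q.run | exact Unit : Sort _) := by first | (refine @Subtype.val _ (fun g => @Cfsg.Agent.Co0Q.run = @g) (@Subtype.mk _ _ (@(fun x0 x1 x2 => @List.rec.{1, 0} ℕ @(fun x3 => ℕ) (@Int.rec.{1} @(fun x3 => ℕ) @(fun x3 => @Bool.rec.{1} @(fun x4 => ℕ) (nat_lit 0) @x3 (@Cfsg.Agent.KO599ffcb.k45 (@Cfsg.Agent.KO599ffcb.k51 @x3) @x1)) @(fun x3 => nat_lit 0) (@Cfsg.Agent.KO599ffcb.k3 @x1 (@Cfsg.Agent.KO599ffcb.k13 (nat_lit 160)) (@Nat.mul (@Nat.pow (nat_lit 2) (nat_lit 143)) (@Cfsg.Agent.KO599ffcb.k1 (nat_lit 160) (nat_lit 24))) (nat_lit 0))) @(fun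 x3 x4 x5 => @Nat.rec.{1} @(fun x6 => ℕ) (@Cfsg.Agent.KO599ffcb.k59 (@x0 (nat_lit 0)) @x5) @(fun x6 x7 => @Cfsg.Agent.KO599ffcb.k59 (@x0 (@Nat.succ @x6)) @x5) @x3) @x2)) ?_); rewrite [← Cfsg.Agent.KO599ffcb.e59, ← Cfsg.Agent.KO599ffcb.e1, ← Cfsg.Agent.KO599ffcb.e13, ← Cfsg.Agent.KO599ffcb.e3, ← Cfsg.Agent.KO599ffcb.e51, ← Cfsg.Agent.KO599ffcb.e45]; (try delta Cfsg.Agent.Co0Q.run); (try generalize @Cfsg.Agent.CoOneType.CoEval.eqL = g0); (try generalize @Cfsg.Agent.Co0Q.unp = g1); (try generalize @Cfsg.Agent.Co0Q.dk = g2); (try generalize @Cfsg.Agent.Co0Q.pw = g3); (try generalize @Cfsg.Agent.Co0Q.jj = g4); (try generalize @Cfsg.Agent.Co0Q.stp = g5); rfl') | exact @Cfsg.Agent.Co0Q.run | exact ()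
private theorem _root_.Cfsg.Agent.KO599ffcb.e60 : (by first | exact @Cfsg.Agent.Co0Q.run = @_root_.Cfsg.Agent.KO599ffcb.k60 | exact True : Prop) := by first | (delta _root_.Cfsg.Agent.KO599ffcb.k60; exact @Subtype.property _ (fun g => @Cfsg.Agent.Co0Q.run = @g) _) | rfl | trivial
private noncomputable def _root_.Cfsg.Agent.KO599ffcb.k61 : (by first | exact type_of% @Cfsg.Agent.Co0Q.fq | exact Unit : Sort _) := by first | (refine @Subtype.val _ (fun g => @Cfsg.Agent.Co0Q.fq = @g) (@Subtype.mk _ _ (@(fun x0 x1 x2 => @Nat.rec.{1} @(fun x3 => @List.{0} ℤ) (@Cfsg.Agent.KO599ffcb.k7.{0, 0} _ _ @(fun x3 x4 => @Cfsg.Agent.KO599ffcb.k49 (@x0 @x3) @x4) @x2 @x1) @(fun x3 x4 => @Cfsg.Agent.KO599ffcb.k51 (@Nat.succ @x3)) (@Cfsg.Agent.KO599ffcb.k60 @x0 @x2 @x1))) ?_); rewrite [← Cfsg.Agent.KO599ffcb.e60, ← Cfsg.Agent.KO599ffcb.e51, ← Cfsg.Agent.KO599ffcb.e49, ← Cfsg.Agent.KO599ffcb.e7.{0, 0}]; (try delta Cfsg.Agent.Co0Q.fq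 Cfsg.Agent.CoOneType.CoEval.fold); (try generalize @Cfsg.Agent.CoOneType.CoEval.ap = g0); (try generalize @Cfsg.Agent.Co0Q.unp = g1); (try generalize @Cfsg.Agent.Co0Q.run = g2); rfl') | exact @Cfsg.Agent.Co0Q.fq | exact ()
private theorem _root_.Cfsg.Agent.KO599ffcb.e61 : (by first | exact @Cfsg.Agent.Co0Q.fq = @_root_.Cfsg.Agent.KO599ffcb.k61 | exact True : Prop) := by first | (delta _root_.Cfsg.Agent.KO599ffcb.k61; exact @Subtype.property _ (fun g => @Cfsg.Agent.Co0Q.fq = @g) _) | rfl | trivial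
private noncomputable def _root_.Cfsg.Agent.KO599ffcb.k62 : (by first | exact type_of% @Cfsg.Agent.H592.VN.Co3.M | exact Unit : Sort _) := by first | (refine @Subtype.val _ (fun g => @Cfsg.Agent.H592.VN.Co3.M = @g) (@Subtype.mk _ _ (@(fun x0 => @Decidable.rec.{1} _ @(fun x1 => @List.{0} (@List.{0} ℤ)) @(fun x1 => @Decidable.rec.{1} _ @(fun x2 => @List.{0} (@List.{0} ℤ)) @(fun x2 => @Decidable.rec.{1} _ @(fun x3 => @List.{0} (@List.{0} ℤ)) @(fun x3 => @Decidable.rec.{1} _ @(fun x4 => @List.{0} (@List.{0} ℤ)) @(fun x4 => @Decidable.rec.{1} _ @(fun x5 => @List.{0} (@List.{0} ℤ)) @(fun x5 => @Decidable.rec.{1} _ @(fun x6 => @List.{0} (@List.{0} ℤ)) @(fun x6 => @Decidable.rec.{1} _ @(fun x7 => @List.{0} (@List.{0} ℤ)) @(fun x7 => @Cfsg.Agent.KO599ffcb.k26 (nat_lit 24) @Cfsg.Agent.H592.VN.Co3.n7) @(fun x7 => @Eq.rec.{1, 1} ℕ (nat_lit 6) @(fun x8 x9 => @List.{0} (@List.{0} ℤ)) (@Cfsg.Agent.KO599ffcb.k26 (nat_lit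 24) @Cfsg.Agent.H592.VN.Co3.n6) @x0 (@Eq.symm.{1} _ _ _ @x7)) (@Cfsg.Agent.KO599ffcb.k17 @x0 (nat_lit 6))) @(fun x6 => @Eq.rec.{1, 1} ℕ (nat_lit 5) @(fun x7 x8 => @List.{0} (@List.{0} ℤ)) (@Cfsg.Agent.KO599ffcb.k26 (nat_lit 24) @Cfsg.Agent.H592.VN.Co3.n5) @x0 (@Eq.symm.{1} _ _ _ @x6)) (@Cfsg.Agent.KO599ffcb.k17 @x0 (nat_lit 5))) @(fun x5 => @Eq.rec.{1, 1} ℕ (nat_lit 4) @(fun x6 x7 => @List.{0} (@List.{0} ℤ)) (@Cfsg.Agent.KO599ffcb.k26 (nat_lit 24) @Cfsg.Agent.H592.VN.Co3.n4) @x0 (@Eq.symm.{1} _ _ _ @x5)) (@Cfsg.Agent.KO599ffcb.k17 @x0 (nat_lit 4))) @(fun x4 => @Eq.rec.{1, 1} ℕ (nat_lit 3) @(fun x5 x6 => @List.{0} (@List.{0} ℤ)) (@Cfsg.Agent.KO599ffcb.k26 (nat_lit 24) @Cfsg.Agent.H592.VN.Co3.n3) @x0 (@Eq.symm.{1} _ _ _ @x4)) (@Cfsg.Agent.KO599ffcb.k17 @x0 (nat_lit 3))) @(fun x3 => @Eq.rec.{1, 1} ℕ (nat_lit 2) @(fun x4 x5 => @List.{0} (@List.{0} ℤ)) (@Cfsg.Agent.KO599ffcb.k26 (nat_lit 24) @Cfsg.Agent.H592.VN.Co3.n2)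 @x0 (@Eq.symm.{1} _ _ _ @x3)) (@Cfsg.Agent.KO599ffcb.k17 @x0 (nat_lit 2))) @(fun x2 => @Eq.rec.{1, 1} ℕ (nat_lit 1) @(fun x3 x4 => @List.{0} (@List.{0} ℤ)) (@Cfsg.Agent.KO599ffcb.k26 (nat_lit 24) @Cfsg.Agent.H592.VN.Co3.n1) @x0 (@Eq.symm.{1} _ _ _ @x2)) (@Cfsg.Agent.KO599ffcb.k17 @x0 (nat_lit 1))) @(fun x1 => @Eq.rec.{1, 1} ℕ (nat_lit 0) @(fun x2 x3 => @List.{0} (@List.{0} ℤ)) (@Cfsg.Agent.KO599ffcb.k26 (nat_lit 24) @Cfsg.Agent.H592.VN.Co3.n0) @x0 (@Eq.symm.{1} _ _ _ @x1)) (@Cfsg.Agent.KO599ffcb.k17 @x0 (nat_lit 0)))) ?_); rewrite [← Cfsg.Agent.KO599ffcb.e17, ← Cfsg.Agent.KO599ffcb.e26]; (try delta Cfsg.Agent.H592.VN.Co3.M Cfsg.Agent.LThreeCo1.Ev.dec); (try generalize @Cfsg.Agent.LThreeCo1.Ev.decRows = g0); (try generalize @Cfsg.Agent.H592.VN.Co3.n7 = g1); (try generalize @Cfsg.Agent.H592.VN.Co3.n6 = g2); (try generalize @Cfsg.Agent.H592.VN.Co3.n5 = g3); (try generalize @Cfsg.Agent.H592.VN.Co3.n4 = g4); (try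 generalize @Cfsg.Agent.H592.VN.Co3.n3 = g5); (try generalize @Cfsg.Agent.H592.VN.Co3.n2 = g6); (try generalize @Cfsg.Agent.H592.VN.Co3.n1 = g7); (try generalize @Cfsg.Agent.H592.VN.Co3.n0 = g8); rfl') | exact @Cfsg.Agent.H592.VN.Co3.M | exact ()
private theorem _root_.Cfsg.Agent.KO599ffcb.e62 : (by first | exact @Cfsg.Agent.H592.VN.Co3.M = @_root_.Cfsg.Agent.KO599ffcb.k62 | exact True : Prop) := by first | (delta _root_.Cfsg.Agent.KO599ffcb.k62; exact @Subtype.property _ (fun g => @Cfsg.Agent.H592.VN.Co3.M = @g) _) | rfl | trivial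
private noncomputable def _root_.Cfsg.Agent.KO599ffcb.k63 : type_of% @Int.natAbs := @(fun x0 => @Int.rec.{1} @(fun x1 => ℕ) @(fun x1 => @x1) @(fun x1 => @Nat.succ @x1) @x0)
private theorem _root_.Cfsg.Agent.KO599ffcb.e63 : @Int.natAbs = @_root_.Cfsg.Agent.KO599ffcb.k63 := by delta _root_.Cfsg.Agent.KO599ffcb.k63; rfl'
private noncomputable def _root_.Cfsg.Agent.KO599ffcb.k64 : (by first | exact type_of% @Cfsg.Agent.H752.CoInv.dg | exact Unit : Sort _) := by first | (refine @Subtype.val _ (fun g => @Cfsg.Agent.H752.CoInv.dg = @g) (@Subtype.mk _ _ (@(fun x0 x1 => @Cfsg.Agent.KO599ffcb.k0 (@Int.ofNat (@Nat.mod (@Nat.div (@Int.rec.{1} @(fun x2 => ℕ) @(fun x2 => @x2) @(fun x2 => nat_lit 0) (@Cfsg.Agent.KO599ffcb.k0 @x0 @Cfsg.Agent.H752.CoInv.off)) (@Nat.pow (nat_lit 64) @x1)) (nat_lit 64))) (@Nat.rec.{1} @(fun x2 => ℤ) (@Int.ofNat (nat_lit 0)) @(fun x2 x3 => @Int.negSucc @x2) (nat_lit 32)))) ?_); rewrite [← Cfsg.Agent.KO599ffcb.e0];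 (try delta Cfsg.Agent.H752.CoInv.dg); (try generalize @Cfsg.Agent.H752.CoInv.off = g0); rfl') | exact @Cfsg.Agent.H752.CoInv.dg | exact ()
private theorem _root_.Cfsg.Agent.KO599ffcb.e64 : (by first | exact @Cfsg.Agent.H752.CoInv.dg = @_root_.Cfsg.Agent.KO599ffcb.k64 | exact True : Prop) := by first | (delta _root_.Cfsg.Agent.KO599ffcb.k64; exact @Subtype.property _ (fun g => @Cfsg.Agent.H752.CoInv.dg = @g) _) | rfl | trivial
private noncomputable def _root_.Cfsg.Agent.KO599ffcb.k66.{ku0} : type_of% @List.get?Internal.{ku0} := @(fun x0 x1 x2 => @List.rec.{(ku0+1), ku0} @x0 @(fun x3 => ℕ → @Option.{ku0} @x0) @(fun x3 => @Option.none.{ku0} _) @(fun x3 x4 x5 x6 => @Nat.rec.{(ku0+1)} @(fun x7 => @Option.{ku0} @x0) (@Option.some.{ku0} _ @x3) @(fun x7 x8 => @x5 @x7) @x6) @x1 @x2)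
private theorem _root_.Cfsg.Agent.KO599ffcb.e66.{ku0} : @List.get?Internal.{ku0} = @_root_.Cfsg.Agent.KO599ffcb.k66.{ku0} := by delta _root_.Cfsg.Agent.KO599ffcb.k66; funext a0 a1 a2; refine (congrFun (_root_.Cfsg.Agent.KO599ffcb.e4 (fun a1 a2 => @List.get?Internal.{ku0} a0 a1 a2) ?_ (fun c0 c1 => ?_) a1) a2 :) <;> [(funext b0; (rfl')); (funext b0; (cases b0 with | @zero  => (rfl') | @succ b0_0 => (rfl')))]
private noncomputable def _root_.Cfsg.Agent.KO599ffcb.k67 : (by first | exact type_of% @Cfsg.Agent.H752.CoInv.trB | exact Unit : Sort _) := by first | (refine @Subtype.val _ (fun g => @Cfsg.Agent.H752.CoInv.trB = @g) (@Subtype.mk _ _ (@(fun x0 => @Cfsg.Agent.KO599ffcb.k7.{0, 0} _ _ @(fun x1 x2 => @Cfsg.Agent.KO599ffcb.k0 @x1 @x2) (@Int.ofNat (nat_lit 0)) (@Cfsg.Agent.KO599ffcb.k6.{0, 0} _ _ @(fun x1 => @Cfsg.Agent.KO599ffcb.k64 (@Option.rec.{1, 0} ℤ @(fun x2 => ℤ) (@Int.ofNat (nat_lit 0)) @(fun x2 => @x2)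 (@Cfsg.Agent.KO599ffcb.k66.{0} _ @x0 @x1)) @x1) (@Cfsg.Agent.KO599ffcb.k9 (nat_lit 24) [])))) ?_); rewrite [← Cfsg.Agent.KO599ffcb.e9, ← Cfsg.Agent.KO599ffcb.e66.{0}, ← Cfsg.Agent.KO599ffcb.e64, ← Cfsg.Agent.KO599ffcb.e6.{0, 0}, ← Cfsg.Agent.KO599ffcb.e0, ← Cfsg.Agent.KO599ffcb.e7.{0, 0}]; (try delta Cfsg.Agent.H752.CoInv.trB); (try generalize @Cfsg.Agent.H752.CoInv.dg = g0); rfl') | exact @Cfsg.Agent.H752.CoInv.trB | exact ()
private theorem _root_.Cfsg.Agent.KO599ffcb.e67 : (by first | exact @Cfsg.Agent.H752.CoInv.trB = @_root_.Cfsg.Agent.KO599ffcb.k67 | exact True : Prop) := by first | (delta _root_.Cfsg.Agent.KO599ffcb.k67; exact @Subtype.property _ (fun g => @Cfsg.Agent.H752.CoInv.trB = @g) _) | rfl | trivial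

theorem chkw0 : chk 0 8 = true := by delta chk invW; rw [Cfsg.Agent.Co0Q.foldZ_eq]; (first | (delta Cfsg.Agent.CoOneType.CoEval.betaL; rewrite [Cfsg.Agent.KO599ffcb.e39.{0}, Cfsg.Agent.KO599ffcb.e41.{0}, Cfsg.Agent.KO599ffcb.e43.{0}, Cfsg.Agent.KO599ffcb.e45, Cfsg.Agent.KO599ffcb.e61, Cfsg.Agent.KO599ffcb.e62, Cfsg.Agent.KO599ffcb.e6.{0, 0}, Cfsg.Agent.KO599ffcb.e38, Cfsg.Agent.KO599ffcb.e63, Cfsg.Agent.KO599ffcb.e67]; decide +kernel) | decide +kernel)

theorem chkw1 : chk 8 8 = true := by delta chk invW; rw [Cfsg.Agent.Co0Q.foldZ_eq]; (first | (delta Cfsg.Agent.CoOneType.CoEval.betaL; rewrite [Cfsg.Agent.KO599ffcb.e39.{0}, Cfsg.Agent.KO599ffcb.e41.{0}, Cfsg.Agent.KO599ffcb.e43.{0}, Cfsg.Agent.KO599ffcb.e45, Cfsg.Agent.KO599ffcb.e61, Cfsg.Agent.KO599ffcb.e62, Cfsg.Agent.KO599ffcb.e6.{0, 0}, Cfsg.Agent.KO599ffcb.e38, Cfsg.Agent.KO599ffcb.e63, Cfsg.Agent.KO599ffcb.e67]; decide +kernel) | decide +kernel)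

theorem chkw2 : chk 16 8 = true := by delta chk invW; rw [Cfsg.Agent.Co0Q.foldZ_eq]; (first | (delta Cfsg.Agent.CoOneType.CoEval.betaL; rewrite [Cfsg.Agent.KO599ffcb.e39.{0}, Cfsg.Agent.KO599ffcb.e41.{0}, Cfsg.Agent.KO599ffcb.e43.{0}, Cfsg.Agent.KO599ffcb.e45, Cfsg.Agent.KO599ffcb.e61, Cfsg.Agent.KO599ffcb.e62, Cfsg.Agent.KO599ffcb.e6.{0, 0}, Cfsg.Agent.KO599ffcb.e38, Cfsg.Agent.KO599ffcb.e63, Cfsg.Agent.KO599ffcb.e67]; decide +kernel) | decide +kernel)

theorem chkw3 : chk 24 8 = true := by delta chk invW; rw [Cfsg.Agent.Co0Q.foldZ_eq]; (first | (delta Cfsg.Agent.CoOneType.CoEval.betaL; rewrite [Cfsg.Agent.KO599ffcb.e39.{0}, Cfsg.Agent.KO599ffcb.e41.{0}, Cfsg.Agent.KO599ffcb.e43.{0}, Cfsg.Agent.KO599ffcb.e45, Cfsg.Agent.KO599ffcb.e61, Cfsg.Agent.KO599ffcb.e62, Cfsg.Agent.KO599ffcb.e6.{0, 0}, Cfsg.Agent.KO599ffcb.e38, Cfsg.Agent.KO599ffcb.e63, Cfsg.Agent.KO599ffcb.e67]; decide +kernel) | decide +kernel)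

theorem chkw4 : chk 32 8 = true := by delta chk invW; rw [Cfsg.Agent.Co0Q.foldZ_eq]; (first | (delta Cfsg.Agent.CoOneType.CoEval.betaL; rewrite [Cfsg.Agent.KO599ffcb.e39.{0}, Cfsg.Agent.KO599ffcb.e41.{0}, Cfsg.Agent.KO599ffcb.e43.{0}, Cfsg.Agent.KO599ffcb.e45, Cfsg.Agent.KO599ffcb.e61, Cfsg.Agent.KO599ffcb.e62, Cfsg.Agent.KO599ffcb.e6.{0, 0}, Cfsg.Agent.KO599ffcb.e38, Cfsg.Agent.KO599ffcb.e63, Cfsg.Agent.KO599ffcb.e67]; decide +kernel) | decide +kernel)

end Cfsg.Agent.H592.VN.Co3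
end

-- part: H720/PV/Top
section
prune_inst 0x302004480010000000000062001cc2d200000000480800206208000d88044280428021b4900010108200c440300048111000000200000000000400011d01800080100410000000000000000000000000000000000000000000000000000000000000000
set_option linter.all false
open scoped Cfsg.Agent.FastGrp

/-!
# The vanishing of the top Harish-Chandra characters (helper720, S4555 / S4559)

* `Mix f` : the characteristic polynomial of `f` is no power of an irreducible polynomial;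
* `mix_of` : `f ^ n = 1`, `n` prime to the characteristic, `f` has a non-zero fixed vector and `f ≠ 1`;
* `PVan c` : the class function `c` of `GL_k(K)` vanishes at the mixed elements; `psi_pvan`;
* `hc_eq_zero` : `F.hc c ψ s = 0` if `s` is mixed on all `s`-invariant members of `F.Om k`;
* `hc_eq_zero_of` : the same for `s ^ n = 1`, in terms of `range (s - 1)`.
-/

set_option autoImplicit false

open scoped ComplexConjugate
open Cfsg

namespace Cfsg.Agent.H720.PV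

open Polynomial Module Cfsg.Agent.Characters Cfsg.Agent.H53.HC Cfsg.Agent.H477.HC Cfsg.Agent.H139.Cusp

universe u v w

section Mix

variable {K : Type u} [Field K] {W : Type v} [AddCommGroup W] [Module K W] [Module.Finite K W]

/-- the characteristic polynomial is no power of an irreducible polynomial -/
def Mix (f : W →ₗ[K] W) : Prop := ∀ (g : K[X]) (m : ℕ), Irreducible g → f.charpoly ≠ g ^ m

/-- `f ^ n = 1`, `n` prime to the characteristic, `f` has a non-zero fixed vector and `f ≠ 1` -/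
theorem mix_of {f : W →ₗ[K] W} {n : ℕ} (hn : (n : K) ≠ 0) (hf : f ^ n = 1) {v w : W} (hv : v ≠ 0) (hfv : f v = v)
    (hfw : f w ≠ w) : Mix f := by
  intro g m hg h
  apply hfw
  have h1 : (X - C (1 : K)) ∣ f.charpoly := by
    rw [dvd_iff_isRoot, ← Module.End.hasEigenvalue_iff_isRoot_charpoly]
    exact Module.End.hasEigenvalue_of_hasEigenvector ⟨by rw [Module.End.mem_eigenspace_iff, one_smul]; exact hfv, hv⟩
  have hirr : Irreducible (X - C (1 : K)) := irreducible_X_sub_C 1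
  rw [h] at h1
  have h2 : (X - C (1 : K)) ∣ g := hirr.prime.dvd_of_dvd_pow h1
  have h3 : Associated (X - C (1 : K)) g := hirr.associated_of_dvd hg h2
  have h4 : Associated ((X - C (1 : K)) ^ m) f.charpoly := by rw [h]; exact h3.pow_pow
  have h5 : aeval f ((X - C (1 : K)) ^ m) = 0 := by
    obtain ⟨c, hc⟩ := h4.symm.dvd
    rw [hc, map_mul, LinearMap.aeval_self_charpoly, zero_mul]
  -- the cofactor
  obtain ⟨Φ, hΦ⟩ : (X - C (1 : K)) ∣ X ^ n - 1 := by
    rw [dvd_iff_isRoot]; simp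
  have hΦ1 : Φ.eval 1 = n := by
    have h6 := congrArg (fun p : K[X] => (derivative p).eval 1) hΦ
    simp only [derivative_sub, derivative_X_pow, derivative_one, derivative_mul, derivative_X, derivative_C, eval_sub,
      eval_mul, eval_add, eval_X, eval_C, eval_pow, sub_zero, sub_self, one_pow, mul_one, zero_mul,
      add_zero, one_mul] at h6
    exact h6.symm
  have hcop : IsCoprime ((X - C (1 : K)) ^ m) Φ := by
    apply IsCoprime.pow_left
    rw [hirr.coprime_iff_not_dvd, dvd_iff_isRoot, IsRoot.def, hΦ1]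
    exact hn
  obtain ⟨a, b, hab⟩ := hcop
  have h7 : aeval f (X ^ n - 1 : K[X]) = 0 := by
    rw [map_sub, map_pow, aeval_X, hf, map_one, sub_self]
  have h8 : aeval f (X - C (1 : K)) = 0 := by
    have h9 : (X - C (1 : K)) = (X - C (1 : K)) * a * (X - C (1 : K)) ^ m + b * (X ^ n - 1) := by
      rw [hΦ]
      linear_combination (-(X - C (1 : K))) * hab
    rw [h9, map_add, map_mul, map_mul _ b, h5, h7, mul_zero, mul_zero, add_zero]
  have h10 : f w - w = 0 := by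
    have := congrArg (fun φ : W →ₗ[K] W => φ w) h8
    simpa using this
  exact sub_eq_zero.1 h10

end Mix

section PVan

variable {K : Type u} [Field K] {k : ℕ}

/-- the class function vanishes at the mixed elements -/
def PVan (c : GL (Fin k) K → ℂ) : Prop :=
  ∀ A : GL (Fin k) K, Mix (Matrix.toLin' (A : Matrix (Fin k) (Fin k) K)) → c A = 0

theorem psi_pvan [Finite K] (L : Type w) [Field L] [Algebra K L] (θ : L →*₀ ℂ) (hk : 0 < k) :
    PVan (psi (n := k) (F := K) L θ) := by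
  intro A hA
  have : NeZero k := ⟨hk.ne'⟩
  have : Nonempty (Fin k) := ⟨⟨0, hk⟩⟩
  change cusp L θ (Matrix.toLin' (A : Matrix (Fin k) (Fin k) K)) = 0
  unfold cusp
  rcases kap_eq_zero_or (lb L θ) (lb_mul L θ) (Matrix.toLin' (A : Matrix (Fin k) (Fin k) K)) with
    ⟨f, m, -, hirr, -, h⟩ | h
  · exact absurd h (hA f m hirr)
  · rw [h, mul_zero]

theorem PVan.cl_eq_zero {W : Type v} [AddCommGroup W] [Module K W] [Module.Finite K W] {c : GL (Fin k) K → ℂ}
    (hcl : IsClassFunction _ c) (h : PVan c) (hW : finrank K W = k) {f : W ≃ₗ[K] W} (hf : Mix (f : W →ₗ[K] W)) :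
    cl c f = 0 := by
  rw [cl_eq hcl (finBasisOfFinrankEq K W hW)]
  apply h
  intro g m hg
  rw [coe_glE]
  have h1 : (Matrix.toLin' (LinearMap.toMatrix (finBasisOfFinrankEq K W hW) (finBasisOfFinrankEq K W hW)
      (f : W →ₗ[K] W))).charpoly = (f : W →ₗ[K] W).charpoly := by
    rw [← LinearMap.charpoly_toMatrix _ (Pi.basisFun K (Fin k)), LinearMap.toMatrix_eq_toMatrix',
      LinearMap.toMatrix'_toLin', LinearMap.charpoly_toMatrix]
  rw [h1]
  exact hf g m hg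

end PVan

section Main

variable {K : Type u} [Field K] {V : Type v} [AddCommGroup V] [Module K V] (F : CForm K V)

theorem hc_eq_zero [FiniteDimensional K V] {k : ℕ} [Fintype (F.Om k)] {c : GL (Fin k) K → ℂ}
    (hcl : IsClassFunction _ c) (hv : PVan c) (ψ : F.iso → Submodule K V → ℂ) {s : F.iso}
    (h : ∀ W ∈ F.Om k, ∀ hW : W.map (F.iso.subtype s : V →ₗ[K] V) = W,
      Mix (res (F.iso.subtype s) W hW : W →ₗ[K] W)) : F.hc c ψ s = 0 := by
  unfold CForm.hc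
  refine Finset.sum_eq_zero fun W _ => ?_
  by_cases hW : W.1.map (F.iso.subtype s : V →ₗ[K] V) = W.1
  · rw [flagTerm_of F.iso.subtype c hW, hv.cl_eq_zero hcl W.2.2 (h W.1 W.2 hW), zero_mul]
  · unfold flagTerm
    rw [dif_neg hW, zero_mul]

/-- `range (s - 1)` -/
def mov (s : V ≃ₗ[K] V) : Submodule K V := LinearMap.range ((s : V →ₗ[K] V) - LinearMap.id)

/-- `s` a semisimple isometry: the fixed vectors are orthogonal to `range (s - 1)` -/
theorem perp_mov (s : F.iso) {v w : V} (hv : (s : V ≃ₗ[K] V) v = v) (hw : w ∈ mov (s : V ≃ₗ[K] V)) : F.B v w = 0 := by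
  obtain ⟨x, rfl⟩ := hw
  rw [LinearMap.sub_apply, LinearMap.id_apply, F.B_sub_right, sub_eq_zero]
  conv_lhs => rw [← hv]
  exact F.iso_B s v x

/-- the average over the powers of `s` -/
theorem decomp {s : V ≃ₗ[K] V} {n : ℕ} (hn : (n : K) ≠ 0) (hs : s ^ n = 1) (W : Submodule K V)
    (hW : ∀ w ∈ W, s w ∈ W) : ∀ w ∈ W, ∃ a ∈ W, ∃ b ∈ W, s a = a ∧ b ∈ mov s ∧ a + b = w := by
  intro w hw
  have hpow : ∀ (i : ℕ), (s ^ i) w ∈ W := by
    intro i
    induction i with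
    | zero => exact hw
    | succ i ih =>
      rw [pow_succ', LinearEquiv.mul_apply]
      exact hW _ ih
  let a : V := ((n : K)⁻¹) • ∑ i ∈ Finset.range n, (s ^ i) w
  have ha : a ∈ W := W.smul_mem _ (W.sum_mem fun i _ => hpow i)
  have hsa : s a = a := by
    change s (((n : K)⁻¹) • ∑ i ∈ Finset.range n, (s ^ i) w) = ((n : K)⁻¹) • ∑ i ∈ Finset.range n, (s ^ i) w
    rw [map_smul, map_sum]
    congr 1
    have e1 : ∀ i, s ((s ^ i) w) = (s ^ (i + 1)) w := fun i => by rw [pow_succ', LinearEquiv.mul_apply]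
    rw [Finset.sum_congr rfl fun i _ => e1 i]
    have e2 := Finset.sum_range_succ' (fun i => (s ^ i) w) n
    rw [Finset.sum_range_succ, hs, pow_zero] at e2
    exact (add_right_cancel e2).symm
  have hmov : ∀ i : ℕ, w - (s ^ i) w ∈ mov s := by
    intro i
    induction i with
    | zero => rw [pow_zero]; change w - w ∈ _; rw [sub_self]; exact Submodule.zero_mem _
    | succ i ih =>
      have e : w - (s ^ (i + 1)) w = (w - (s ^ i) w) + (-(s ((s ^ i) w) - (s ^ i) w)) := by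
        rw [pow_succ', LinearEquiv.mul_apply]; abel
      rw [e]
      exact Submodule.add_mem _ ih (Submodule.neg_mem _ ⟨(s ^ i) w, rfl⟩)
  refine ⟨a, ha, w - a, W.sub_mem hw ha, hsa, ?_, by abel⟩
  have e : w - a = ((n : K)⁻¹) • ∑ i ∈ Finset.range n, (w - (s ^ i) w) := by
    rw [Finset.sum_sub_distrib, smul_sub, Finset.sum_const, Finset.card_range, ← Nat.cast_smul_eq_nsmul K, smul_smul,
      inv_mul_cancel₀ hn, one_smul]
  rw [e]
  exact Submodule.smul_mem _ _ (Submodule.sum_mem _ fun i _ => hmov i)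

/-- fixed vectors in `range (s - 1)` -/
theorem eq_zero_of_mov {s : V ≃ₗ[K] V} {n : ℕ} (hn : (n : K) ≠ 0) (hs : s ^ n = 1) {v : V} (hv : s v = v)
    (hm : v ∈ mov s) : v = 0 := by
  obtain ⟨x, hx⟩ := hm
  rw [LinearMap.sub_apply, LinearMap.id_apply] at hx
  have hx' : s x = x + v := by rw [← hx]; exact (add_sub_cancel _ _).symm
  have h1 : ∀ i : ℕ, (s ^ i) x = x + (i : K) • v := by
    intro i
    induction i with
    | zero => rw [pow_zero, Nat.cast_zero, zero_smul, add_zero]; rfl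
    | succ i ih =>
      rw [pow_succ', LinearEquiv.mul_apply, ih, map_add, map_smul, hv, hx', Nat.cast_succ, add_smul, one_smul]
      abel
  have h2 := h1 n
  rw [hs] at h2
  have h3 : (n : K) • v = 0 := by
    have : x = x + (n : K) • v := h2
    exact (add_eq_left.1 this.symm)
  exact (smul_eq_zero.1 h3).resolve_left hn

theorem finrank_add_perp_le [FiniteDimensional K V] (A : Submodule K V) :
    finrank K A + finrank K (F.perp A) ≤ finrank K V := by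
  obtain ⟨D, hD⟩ := (F.perp A).exists_isCompl
  have h1 : A ⊓ F.perp D = ⊥ := by
    rw [Submodule.eq_bot_iff]
    rintro a ⟨ha, ha'⟩
    refine F.nondeg a fun u => ?_
    have hu : u ∈ F.perp A ⊔ D := by rw [hD.sup_eq_top]; trivial
    obtain ⟨x, hx, y, hy, rfl⟩ := Submodule.mem_sup.1 hu
    rw [F.B_add_right, F.B_eq_zero (hx a ha), ha' y hy, add_zero]
  have h2 := F.finrank_le_of_opp h1
  have h3 := Submodule.finrank_add_eq_of_isCompl hD
  omega

/-- orthogonal independent subspaces -/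
theorem dim_bound [FiniteDimensional K V] {A C D : Submodule K V} (hAC : ∀ a ∈ A, ∀ c ∈ C, F.B c a = 0)
    (hAD : ∀ a ∈ A, ∀ d ∈ D, F.B d a = 0) (hCD : C ⊓ D = ⊥) :
    finrank K A + (finrank K C + finrank K D) ≤ finrank K V := by
  have h1 : C ⊔ D ≤ F.perp A := sup_le (fun c hc a ha => hAC a ha c hc) fun d hd a ha => hAD a ha d hd
  have h2 := Submodule.finrank_mono h1
  have h3 := finrank_add_perp_le F A
  have h4 := Submodule.finrank_sup_add_finrank_inf_eq C D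
  rw [hCD, finrank_bot, add_zero] at h4
  omega

theorem finrank_fix_add_mov [FiniteDimensional K V] (s : V ≃ₗ[K] V) :
    finrank K (LinearMap.ker ((s : V →ₗ[K] V) - LinearMap.id)) + finrank K (mov s) = finrank K V := by
  rw [add_comm]
  exact LinearMap.finrank_range_add_finrank_ker _

/-- **the criterion**: `s` of order prime to the characteristic, `dim [V, s] < 2 k`, no totally singular `k`-subspace is
centralised by `s` -/
theorem hc_eq_zero_of [FiniteDimensional K V] {k : ℕ} [Fintype (F.Om k)] {c : GL (Fin k) K → ℂ}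
    (hcl : IsClassFunction _ c) (hv : PVan c) (ψ : F.iso → Submodule K V → ℂ) {s : F.iso} {n : ℕ} (hn : (n : K) ≠ 0)
    (hs : (s : V ≃ₗ[K] V) ^ n = 1) (h1 : finrank K (mov (s : V ≃ₗ[K] V)) < 2 * k)
    (h2 : ∀ W ∈ F.Om k, ∃ w ∈ W, (s : V ≃ₗ[K] V) w ≠ w) : F.hc c ψ s = 0 := by
  refine hc_eq_zero F hcl hv ψ fun W hWk hW => ?_
  have hinv : ∀ w ∈ W, (s : V ≃ₗ[K] V) w ∈ W := fun w hw => by
    rw [← hW]; exact ⟨w, hw, rfl⟩
  obtain ⟨w, hw, hsw⟩ := h2 W hWk
  -- a fixed vector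
  obtain ⟨v, hvW, hv0, hsv⟩ : ∃ v ∈ W, v ≠ 0 ∧ (s : V ≃ₗ[K] V) v = v := by
    by_contra hcon
    push Not at hcon
    have hWm : W ≤ mov (s : V ≃ₗ[K] V) := by
      intro w hw
      obtain ⟨a, ha, b, hb, hsa, hbm, rfl⟩ := decomp hn hs W hinv w hw
      have ha0 : a = 0 := by
        by_contra h
        exact hcon a ha h hsa
      rw [ha0, zero_add]
      exact hbm
    have h3 := dim_bound F (A := W) (C := W) (D := LinearMap.ker (((s : V ≃ₗ[K] V) : V →ₗ[K] V) - LinearMap.id))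
      (fun a ha c hc => hWk.1.2 c hc a ha) (fun a ha d hd => by
        rw [LinearMap.mem_ker, LinearMap.sub_apply, LinearMap.id_apply, sub_eq_zero] at hd
        exact perp_mov F s hd (hWm ha)) (by
        rw [Submodule.eq_bot_iff]
        rintro x ⟨hx, hx'⟩
        by_contra hx0
        have hx'' : x ∈ LinearMap.ker (((s : V ≃ₗ[K] V) : V →ₗ[K] V) - LinearMap.id) := hx'
        rw [LinearMap.mem_ker, LinearMap.sub_apply, LinearMap.id_apply, sub_eq_zero] at hx''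
        exact hcon x hx hx0 hx'')
    have h4 := finrank_fix_add_mov (s : V ≃ₗ[K] V)
    have h5 := hWk.2
    omega
  have hres : (res (F.iso.subtype s) W hW : W →ₗ[K] W) ^ n = 1 := by
    have h3 : ∀ (i : ℕ) (x : W), ((((res (F.iso.subtype s) W hW : W →ₗ[K] W) ^ i) x : W) : V) =
        ((s : V ≃ₗ[K] V) ^ i) x := by
      intro i
      induction i with
      | zero => intro x; rfl
      | succ i ih =>
        intro x
        rw [pow_succ', pow_succ', Module.End.mul_apply, LinearEquiv.mul_apply, ← ih]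
        rfl
    ext x
    rw [h3, hs]
    rfl
  refine mix_of (v := ⟨v, hvW⟩) (w := ⟨w, hw⟩) hn hres ?_ ?_ ?_
  · intro h
    exact hv0 (congrArg Subtype.val h)
  · exact Subtype.ext hsv
  · intro h
    exact hsw (congrArg Subtype.val h)

/-- the second condition, from the dimensions -/
theorem exists_moved_of_dim [FiniteDimensional K V] {k : ℕ} {s : F.iso} {n : ℕ} (hn : (n : K) ≠ 0)
    (hs : (s : V ≃ₗ[K] V) ^ n = 1) (h : finrank K V < 2 * k + finrank K (mov (s : V ≃ₗ[K] V))) :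
    ∀ W ∈ F.Om k, ∃ w ∈ W, (s : V ≃ₗ[K] V) w ≠ w := by
  intro W hW
  by_contra hcon
  push Not at hcon
  have h3 := dim_bound F (A := W) (C := W) (D := mov (s : V ≃ₗ[K] V))
    (fun a ha c hc => hW.1.2 c hc a ha) (fun a ha d hd => F.B_eq_zero (perp_mov F s (hcon a ha) hd)) (by
      rw [Submodule.eq_bot_iff]
      rintro x ⟨hx, hx'⟩
      exact eq_zero_of_mov hn hs (hcon x hx) hx')
  have h5 := hW.2
  omega

/-- the second condition, for `k` the Witt index and a singular vector in `[V, s]` -/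
theorem exists_moved_of_sing [FiniteDimensional K V] {k : ℕ} {s : F.iso} {n : ℕ} (hn : (n : K) ≠ 0)
    (hs : (s : V ≃ₗ[K] V) ^ n = 1) (hk : ∀ W, F.TS W → finrank K W ≤ k) {u : V} (hu : u ∈ mov (s : V ≃ₗ[K] V))
    (hu0 : u ≠ 0) (hus : F.Sing u) : ∀ W ∈ F.Om k, ∃ w ∈ W, (s : V ≃ₗ[K] V) w ≠ w := by
  intro W hW
  by_contra hcon
  push Not at hcon
  have hBu : ∀ w ∈ W, F.B w u = 0 := fun w hw => perp_mov F s (hcon w hw) hu
  have hTS : F.TS (W ⊔ Submodule.span K {u}) := by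
    have hQ : ∀ w ∈ W, ∀ a : K, F.Q (w + a • u) = 0 := by
      intro w hw a
      rw [F.Q_add, F.Q_smul, hus.1, hW.1.1 w hw, F.B_smul_right, hBu w hw, mul_zero, mul_zero, F.T_zero, add_zero,
        add_zero]
    refine ⟨fun x hx => ?_, fun x hx y hy => ?_⟩
    · obtain ⟨w, hw, z, hz, rfl⟩ := Submodule.mem_sup.1 hx
      obtain ⟨a, rfl⟩ := Submodule.mem_span_singleton.1 hz
      exact hQ w hw a
    · obtain ⟨w, hw, z, hz, rfl⟩ := Submodule.mem_sup.1 hx
      obtain ⟨a, rfl⟩ := Submodule.mem_span_singleton.1 hz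
      obtain ⟨w', hw', z', hz', rfl⟩ := Submodule.mem_sup.1 hy
      obtain ⟨b, rfl⟩ := Submodule.mem_span_singleton.1 hz'
      rw [F.B_add_left, F.B_add_right, F.B_add_right, F.B_smul_left, F.B_smul_left, F.B_smul_right, F.B_smul_right,
        hW.1.2 w hw w' hw', hBu w hw, F.B_eq_zero (hBu w' hw'), hus.2]
      ring
  have h1 := hk _ hTS
  have h2 : W ⊓ Submodule.span K {u} = ⊥ := by
    rw [Submodule.eq_bot_iff]
    rintro x ⟨hx, hx'⟩
    obtain ⟨a, rfl⟩ := Submodule.mem_span_singleton.1 hx'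
    exact eq_zero_of_mov hn hs (hcon _ hx) (Submodule.smul_mem _ _ hu)
  have h4 := Submodule.finrank_sup_add_finrank_inf_eq W (Submodule.span K {u})
  rw [h2, finrank_bot, add_zero, finrank_span_singleton hu0, hW.2] at h4
  omega

/-- the irreducible character of the isometry group, with its values at `1`, at scalars and its zeros -/
theorem exists_char_v [Finite K] [Finite V] [FiniteDimensional K V] {k : ℕ} {W₀ : Submodule K V} (hW₀ : W₀ ∈ F.Om k)
    {Z : Kˣ → Prop} {c : GL (Fin k) K → ℂ} (hc : Cus K k F.σ Z c) (hv : PVan c) :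
    ∃ χ : F.iso → ℂ, IsIrrCharacter F.iso χ ∧ χ 1 = (dg F k : ℂ) ∧
      (∀ (z : F.iso) (a : Kˣ), Z a → (∀ v, (z : V ≃ₗ[K] V) v = (a : K) • v) → χ z = χ 1) ∧
      ∀ (s : F.iso) (n : ℕ), (n : K) ≠ 0 → (s : V ≃ₗ[K] V) ^ n = 1 → finrank K (mov (s : V ≃ₗ[K] V)) < 2 * k →
        (∀ W ∈ F.Om k, ∃ w ∈ W, (s : V ≃ₗ[K] V) w ≠ w) → χ s = 0 := by
  have := finite_Om F k
  have := finite_iso F
  let _ := Fintype.ofFinite (F.Om k)
  let _ := Fintype.ofFinite F.iso
  have hcl := Core.isIrr_isClassFunction hc.irr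
  refine ⟨F.hc c (fun _ _ => 1), F.isIrr_hc_one hc.irr hc.cusp hc.dual hW₀, ?_, fun z a ha hz => ?_,
    fun s n hn hs h1 h2 => hc_eq_zero_of F hcl hv _ hn hs h1 h2⟩
  · rw [F.hc_one hcl (fun _ _ => 1) (d := 1) (fun _ _ => rfl), hc.deg, mul_one]
    unfold dg
    rw [Nat.cast_mul]
  · exact F.hc_scalar hcl (fun _ _ => 1) hz (hc.scal a ha) (fun _ _ => rfl)

end Main

section Cus

variable {K : Type u} [Field K] [Finite K]

theorem exists_cus_v (k : ℕ) (hk : 0 < k) (a : ℕ) (ha : a ≠ 0)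
    (hreg : ∀ i, 0 < i → i < k → ¬ (Nat.card K ^ k - 1) ∣ a * (Nat.card K ^ i - 1))
    (hdual : ∀ i, i < k → ¬ (Nat.card K ^ k - 1) ∣ a * Nat.card K ^ i + a) :
    ∃ c : GL (Fin k) K → ℂ, Cus K k (RingHom.id K) (fun z => z ^ a = 1) c ∧ PVan c := by
  classical
  obtain ⟨L, _, _, _, hL⟩ := exists_L K k hk
  obtain ⟨θ, hθ⟩ := exists_theta L
  have hcardL : Nat.card Lˣ = Nat.card K ^ k - 1 := by
    rw [Nat.card_units, Module.natCard_eq_pow_finrank (K := K), hL]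
  have hR : Regular K k (powTheta θ a ha) := (regular_powTheta_iff hθ ha hL).2 hreg
  refine ⟨psi L (powTheta θ a ha), ⟨psi_isIrr _ hL hR, psi_isCusp L _, ?_, ?_, ?_⟩, psi_pvan L _ hk⟩
  · intro h
    have h1 : ∀ g : ((Fin k → K) →ₗ[K] (Fin k → K))ˣ, cusp L (powTheta θ a ha) (g : (Fin k → K) →ₗ[K] (Fin k → K)) =
        cusp L (conjTheta (powTheta θ a ha)) (g : (Fin k → K) →ₗ[K] (Fin k → K)) := by
      intro g
      let A : GL (Fin k) K := Matrix.GeneralLinearGroup.toLin.symm g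
      have h2 := congrFun h A
      have h3 : ((Matrix.GeneralLinearGroup.map (RingHom.id K)).comp (invT k)) A = invT k A := by
        ext i j
        rfl
      rw [Function.comp_apply, h3, psi_invT _ hL] at h2
      have h4 : psi L (powTheta θ a ha) A = cusp L (powTheta θ a ha) (g : (Fin k → K) →ₗ[K] (Fin k → K)) := by
        have h5 : Matrix.GeneralLinearGroup.toLin A = g := MulEquiv.apply_symm_apply _ g
        rw [← h5]
        rfl
      rw [h4, cusp_star] at h2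
      exact h2.symm
    obtain ⟨i, hi, h2⟩ := (cusp_eq_iff (V := Fin k → K) (powTheta θ a ha) (conjTheta (powTheta θ a ha))
      (by rw [Module.finrank_fin_fun, hL]) (by rw [hL]; exact hR)).1 h1
    rw [hL] at hi
    have h3 := (conj_powTheta_eq_iff hθ ha ha (pow_ne_zero i (Nat.card_pos (α := K)).ne')).1 h2
    rw [hcardL] at h3
    exact hdual i hi h3
  · intro z hz
    have h1 := psi_scalar (powTheta θ a ha) hL z 1
    rw [mul_one] at h1
    rw [h1, powTheta_eq_one ha, one_mul]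
    rw [← map_pow, ← Units.val_pow_eq_pow_val, hz, Units.val_one, map_one]
  · rw [psi_one L _ hk, degP_eq_Ico]

/-- `θ = φ²`, `q` odd -/
theorem exists_cus_two_v {q : ℕ} (hq : Nat.card K = q) (h3 : 3 ≤ q) (k : ℕ) (hk : 0 < k) (h5 : 5 < q ^ k)
    (h32 : ¬ (q = 3 ∧ k = 2)) : ∃ c : GL (Fin k) K → ℂ, Cus K k (RingHom.id K) (fun z => z ^ 2 = 1) c ∧ PVan c := by
  refine exists_cus_v k hk 2 two_ne_zero (fun i hi hik h => ?_) (fun i hik h => ?_)
  · rw [hq] at h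
    have h1 := mul_sub_lt h3 hik
    have h2 : 0 < 2 * (q ^ i - 1) := by
      have : 1 < q ^ i := Nat.one_lt_pow hi.ne' (by omega)
      omega
    exact absurd (Nat.le_of_dvd h2 h) (by omega)
  · rw [hq] at h
    have h1 := Nat.le_of_dvd (by omega) h
    rcases Nat.eq_zero_or_pos i with rfl | hi
    · rw [pow_zero] at h1
      have h6 : q ^ k = 6 ∨ 6 < q ^ k := by omega
      rcases h6 with h6 | h6
      · rw [h6, pow_zero] at h; revert h; decide
      · omega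
    · have h6 : q ^ i ≤ q ^ (k - 1) := Nat.pow_le_pow_right (by omega) (by omega)
      have h7 : q ^ k = q ^ (k - 1) * q := by rw [← pow_succ]; congr 1; omega
      have h8 : q ≤ q ^ (k - 1) := by
        calc q = q ^ 1 := (pow_one q).symm
          _ ≤ _ := Nat.pow_le_pow_right (by omega) (by omega)
      rcases Nat.lt_or_ge q 4 with h9 | h9
      · have hq3 : q = 3 := by omega
        subst hq3
        have hk3 : 3 ≤ k := by omega
        have h10 : 3 ^ 2 ≤ 3 ^ (k - 1) := Nat.pow_le_pow_right (by omega) (by omega)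
        omega
      · have h10 : q ^ (k - 1) * 4 ≤ q ^ (k - 1) * q := Nat.mul_le_mul_left _ h9
        omega

/-- `θ = φ` -/
theorem exists_cus_one_v {q : ℕ} (hq : Nat.card K = q) (k : ℕ) (hk : 0 < k) (h5 : 3 < q ^ k)
    (h22 : ¬ (q = 2 ∧ k = 2)) : ∃ c : GL (Fin k) K → ℂ, Cus K k (RingHom.id K) (fun z => z ^ 1 = 1) c ∧ PVan c := by
  have h2 : 2 ≤ q := by rw [← hq]; exact Finite.one_lt_card
  refine exists_cus_v k hk 1 one_ne_zero (fun i hi hik h => ?_) (fun i hik h => ?_)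
  · rw [hq, one_mul] at h
    have h1 : q ^ i < q ^ k := Nat.pow_lt_pow_right h2 hik
    have h3 : 1 < q ^ i := Nat.one_lt_pow hi.ne' (by omega)
    exact absurd (Nat.le_of_dvd (by omega) h) (by omega)
  · rw [hq, one_mul] at h
    have h1 := Nat.le_of_dvd (by omega) h
    rcases Nat.eq_zero_or_pos i with rfl | hi
    · rw [pow_zero] at h1 h
      omega
    · have h6 : q ^ i ≤ q ^ (k - 1) := Nat.pow_le_pow_right (by omega) (by omega)
      have h7 : q ^ k = q ^ (k - 1) * q := by rw [← pow_succ]; congr 1; omega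
      have h8 : q ≤ q ^ (k - 1) := by
        calc q = q ^ 1 := (pow_one q).symm
          _ ≤ _ := Nat.pow_le_pow_right (by omega) (by omega)
      rcases Nat.lt_or_ge q 3 with h9 | h9
      · have hq3 : q = 2 := by omega
        subst hq3
        have hk3 : 3 ≤ k := by omega
        have h10 : 2 ^ 2 ≤ 2 ^ (k - 1) := Nat.pow_le_pow_right (by omega) (by omega)
        omega
      · have h10 : q ^ (k - 1) * 3 ≤ q ^ (k - 1) * q := Nat.mul_le_mul_left _ h9
        omega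

/-- a cuspidal datum trivial on `±1` -/
theorem exists_cus_sq_v (K : Type u) [Field K] [Finite K] {q : ℕ} (hq : Nat.card K = q) (k : ℕ) (hk : 0 < k)
    (h2 : q = 2 → 3 ≤ k) (h3 : q = 3 → 3 ≤ k) (h5 : q = 5 → 2 ≤ k) :
    ∃ c : GL (Fin k) K → ℂ, Cus K k (RingHom.id K) (fun z => z ^ 2 = 1) c ∧ PVan c := by
  have hq2 : 2 ≤ q := by rw [← hq]; exact Finite.one_lt_card
  have hpow : ∀ j, j ≤ k → q ^ j ≤ q ^ k := fun j hj => Nat.pow_le_pow_right (by omega) hj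
  rcases Nat.even_or_odd q with he | ho
  · obtain ⟨c, hc, hv⟩ := exists_cus_one_v (K := K) hq k hk (by
      rcases Nat.lt_or_ge q 3 with h | h
      · have h6 : q = 2 := by omega
        have h7 := hpow 3 (h2 h6)
        rw [h6] at h7 ⊢
        omega
      · have h6 : q ≠ 3 := by rintro rfl; revert he; decide
        have h7 := hpow 1 hk
        rw [pow_one] at h7
        omega) (by rintro ⟨h6, h7⟩; have := h2 h6; omega)
    have h2K : (2 : K) = 0 := by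
      let _ := Fintype.ofFinite K
      obtain ⟨p, hp⟩ := CharP.exists K
      have hpr : p.Prime := (CharP.char_is_prime_or_zero K p).resolve_right (CharP.char_ne_zero_of_finite K p)
      have : Fact p.Prime := ⟨hpr⟩
      obtain ⟨n, hn⟩ := card_pow K p
      have h6 : 2 ∣ p ^ n := by rw [← hn, hq]; exact he.two_dvd
      have h7 : p = 2 := ((Nat.prime_dvd_prime_iff_eq Nat.prime_two hpr).1 (Nat.prime_two.dvd_of_dvd_pow h6)).symm
      subst h7
      exact_mod_cast (CharP.cast_eq_zero K 2)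
    refine ⟨c, ⟨hc.irr, hc.cusp, hc.dual, fun z hz => hc.scal z ?_, hc.deg⟩, hv⟩
    rw [pow_one]
    have h8 : ((z : K) - 1) ^ 2 = 0 := by
      have h9 : (z : K) ^ 2 = 1 := by
        rw [← Units.val_pow_eq_pow_val, hz, Units.val_one]
      linear_combination h9 - ((z : K) - 1) * h2K
    exact Units.ext (sub_eq_zero.1 (pow_eq_zero_iff two_ne_zero |>.1 h8))
  · have h6 : 3 ≤ q := by
      rcases ho with ⟨j, hj⟩; omega
    refine exists_cus_two_v (K := K) hq h6 k hk ?_ (by rintro ⟨h7, h8⟩; have := h3 h7; omega)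
    rcases Nat.lt_or_ge q 7 with h | h
    · have h7 : q = 3 ∨ q = 5 := by
        rcases ho with ⟨j, hj⟩; omega
      rcases h7 with h7 | h7
      · have h8 := hpow 3 (h3 h7)
        rw [h7] at h8 ⊢
        omega
      · have h8 := hpow 2 (h5 h7)
        rw [h7] at h8 ⊢
        omega
    · have h8 := hpow 1 hk
      rw [pow_one] at h8
      omega

end Cus

end Cfsg.Agent.H720.PV
end

-- part: H649/VanSp4/Row
section
prune_inst 0x1400401004000000000050210200004000004b000000000c00000040000806000802000080010020200000100010020000000000000000000000000000000000000000001000000840010000000000000000000000000000000000000000000000000000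
set_option linter.all false
open scoped Cfsg.Agent.FastGrp

-- part: H649/VanSp4/Fam
section
/-!
# A rank two family of cuspidal characters vanishes on the whole `Aut`-class of a torus element (helper649)

* `vz_of_family` : `E` a family of irreducible characters which agree on all the subgroups of order prime to `a`,
  with more than `|W|` members, the orders of the maximal parabolic subgroups prime to `a`, `x ∈ T` with fixed points
  on at most one pair of opposite root groups: `H713.VZ Y x`.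
-/

set_option autoImplicit false

open scoped ComplexConjugate
open Cfsg

namespace Cfsg.Agent.H649.VanSp4

open CoxeterSystem Cfsg.Agent.ChevalleyStructure.CoxeterGeom Cfsg.Agent.Tits.Roots Cfsg.Agent.Tits.Core
  Cfsg.Agent.Tits.Exchange Cfsg.Agent.Nodes.Reps Cfsg.Agent.Nodes.BNOf Cfsg.Agent.Nodes.StabComb
  Cfsg.Agent.Nodes.Bruhat Cfsg.Agent.Nodes.OppDec Cfsg.Agent.Nodes.LeviDec Cfsg.Agent.H53.HC Cfsg.Agent.H115.HC
  Cfsg.Agent.H811.PSq

variable {W Y : Type*} [Group W] [Group Y] {M : CoxeterMatrix (Fin 2)}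
  {cs : CoxeterSystem M W} {A : Fin 2 → Fin 2 → ℤ} {h : IsCartan M A} {p : ℕ} {T : Subgroup Y} {n : Fin 2 → Y}
  {X : (Fin 2 → ℤ) → Subgroup Y}

/-- the twist of an irreducible character -/
noncomputable def tw (α : MulAut Y) (χ : IrrCharacter Y) : IrrCharacter Y :=
  ⟨(χ : Y → ℂ) ∘ α, Cfsg.Agent.Characters.Core.isIrr_comp (α : Y →* Y) α.surjective χ.2⟩

theorem tw_apply (α : MulAut Y) (χ : IrrCharacter Y) (y : Y) : (tw α χ : Y → ℂ) y = (χ : Y → ℂ) (α y) := rfl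

theorem tw_injective (α : MulAut Y) : Function.Injective (tw (Y := Y) α) := by
  intro χ χ' hh
  apply Subtype.ext
  funext y
  have h1 := congrArg (fun ψ : IrrCharacter Y => (ψ : Y → ℂ) (α.symm y)) hh
  simp only [tw_apply, MulEquiv.apply_symm_apply] at h1
  exact h1

theorem cases_J {J : Set (Fin 2)} (hJ : J ≠ Set.univ) : J = ∅ ∨ J = {0} ∨ J = {1} := by
  by_cases h0 : (0 : Fin 2) ∈ J
  · by_cases h1 : (1 : Fin 2) ∈ J
    · exact absurd (Set.eq_univ_of_forall fun k => by fin_cases k <;> assumption) hJ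
    · right; left
      ext k
      fin_cases k
      · simpa using h0
      · simpa using h1
  · by_cases h1 : (1 : Fin 2) ∈ J
    · right; right
      ext k
      fin_cases k
      · simpa using h0
      · simpa using h1
    · left
      ext k
      fin_cases k
      · simpa using h0
      · simpa using h1

theorem single_ne_univ (i : Fin 2) : ({i} : Set (Fin 2)) ≠ Set.univ := by
  intro h1
  have h3 : ∀ k : Fin 2, k ∈ ({i} : Set (Fin 2)) := fun k => by rw [h1]; trivial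
  have h4 := h3 0
  have h5 := h3 1
  rw [Set.mem_singleton_iff] at h4 h5
  exact absurd (h4.trans h5.symm) (by decide)

variable (R : RGD cs h p T n X)

include R

theorem vz_of_family [Finite W] [Finite Y] (hG : GG cs h T X = ⊤) (hTc : ∀ a ∈ T, ∀ b ∈ T, a * b = b * a) {a : ℕ}
    (E : Finset (IrrCharacter Y))
    (hE : ∀ χ ∈ E, ∀ χ' ∈ E, ∀ P : Subgroup Y, (Nat.card P).Coprime a → ∀ x ∈ P, (χ : Y → ℂ) x = (χ' : Y → ℂ) x)
    (hP : ∀ i, (Nat.card (PJ cs h T X {i})).Coprime a) (h2 : 2 < E.card) (hcard : Nat.card W < E.card)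
    {x : Y} (hx : x ∈ T)
    (hone : ∀ z z', IsRoot cs h z → IsRoot cs h z' → NF X x z → NF X x z' → z = z' ∨ z = -z') :
    H713.VZ Y x := by
  classical
  have hfin := Fintype.ofFinite Y
  have hne : E.Nonempty := Finset.card_pos.1 (by omega)
  obtain ⟨χ, hχ⟩ := hne
  refine ⟨χ, fun α => ?_⟩
  -- the twisted family
  set E' : Finset (IrrCharacter Y) := E.image (tw α) with hE'
  have hc' : E'.card = E.card := Finset.card_image_of_injective _ (tw_injective α)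
  have hχ' : tw α χ ∈ E' := Finset.mem_image_of_mem _ hχ
  have hag : ∀ ψ ∈ E', ∀ ψ' ∈ E', ∀ P : Subgroup Y, (Nat.card P).Coprime a → ∀ x ∈ P, (ψ : Y → ℂ) x = (ψ' : Y → ℂ) x := by
    intro ψ hψ ψ' hψ' P hPc x hx
    obtain ⟨χ₁, h1, rfl⟩ := Finset.mem_image.1 hψ
    obtain ⟨χ₂, h2, rfl⟩ := Finset.mem_image.1 hψ'
    rw [tw_apply, tw_apply]
    refine hE χ₁ h1 χ₂ h2 (P.map (α : Y →* Y)) ?_ (α x) (Subgroup.mem_map_of_mem _ hx)
    rw [Nat.card_congr (P.equivMapOfInjective (α : Y →* Y) α.injective).symm.toEquiv]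
    exact hPc
  have hPJ : ∀ J : Set (Fin 2), J ≠ Set.univ → ∀ ψ ∈ E', ∀ ψ' ∈ E', ∀ x ∈ PJ cs h T X J,
      (ψ : Y → ℂ) x = (ψ' : Y → ℂ) x := by
    intro J hJ ψ hψ ψ' hψ' x hx
    rcases cases_J hJ with rfl | rfl | rfl
    · exact hag ψ hψ ψ' hψ' _ (hP 0) x (Cfsg.Agent.H246.Dl.PJ_mono (Set.empty_subset _) hx)
    · exact hag ψ hψ ψ' hψ' _ (hP 0) x hx
    · exact hag ψ hψ ψ' hψ' _ (hP 1) x hx
  have hcusp := sum_VJ_eq_zero R hG hTc E' hPJ (fun J hJ => by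
    left
    rw [hc']
    rcases cases_J hJ with rfl | rfl | rfl
    · exact lt_of_le_of_lt (Nat.card_le_card_of_injective _ Subtype.val_injective) hcard
    · exact lt_of_le_of_lt (card_perm_le 0) h2
    · exact lt_of_le_of_lt (card_perm_le 1) h2)
  have h3 := char_zero R (tw α χ).2 (fun i => hcusp {i} (single_ne_univ i) _ hχ') hx hone
  exact h3

end Cfsg.Agent.H649.VanSp4
end

-- part: H649/VanSp4/Hone
section
/-!
# The torus of `PSp₄(q)`, `q` even (helper649)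

* `hone` : a nonidentity element of the torus has fixed points on at most one pair of opposite root groups;
* `exists_tor` : elements of order `p ∣ q - 1` of the torus.
-/

set_option autoImplicit false

namespace Cfsg.Agent.H649.VanSp4

open Cfsg Cfsg.Agent.ChevalleyStructure.CoxeterGeom Cfsg.Agent.Tits.Roots Cfsg.Agent.Nodes.TypeC
open Cfsg.Agent.Nodes.WittRoot Cfsg.Agent.Nodes.WittRGD Cfsg.Agent.Nodes.WittModel Cfsg.Agent.H811.PSq
open Cfsg.Agent.TitsThree Cfsg.Agent.TitsThree.Siegel Cfsg.Agent.TitsThree.WittFrame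
  Cfsg.Agent.TitsThree.WittWeyl Cfsg.Agent.TitsThree.FrameCN Cfsg.Agent.TitsThree.SpIdent
open Cfsg.Agent.ClassicalGeometry.SympBasic

section comb

/-- the four types of positive roots -/
def om : Fin 4 → (Fin 2 → ℤ) := ![![2, 0], ![0, 2], ![1, 1], ![1, -1]]

/-- the four conditions -/
def CC {F : Type*} [Field F] (u v : F) : Fin 4 → Prop := ![u = 1, v = 1, u * v = 1, u = v]

theorem cc_eq {F : Type*} [Field F] (h2 : ∀ c : F, c * c = 1 → c = 1) {u v : F} {k k' : Fin 4} (hk : CC u v k)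
    (hk' : CC u v k') (hne : k ≠ k') : u = 1 ∧ v = 1 := by
  have key : ∀ k k' : Fin 4, k < k' → CC u v k → CC u v k' → u = 1 ∧ v = 1 := by
    intro k k' hlt h h'
    fin_cases k <;> fin_cases k' <;> simp only [CC, Fin.mk_lt_mk] at hlt <;> first | (clear * - hlt; omega) | skip
    · exact ⟨h, h'⟩
    · have h1 : u = 1 := h
      have h2 : u * v = 1 := h'
      rw [h1, one_mul] at h2
      exact ⟨h1, h2⟩
    · have h1 : u = 1 := h
      have h2 : u = v := h'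
      exact ⟨h1, by rw [← h2, h1]⟩
    · have h1 : v = 1 := h
      have h2 : u * v = 1 := h'
      rw [h1, mul_one] at h2
      exact ⟨h2, h1⟩
    · have h1 : v = 1 := h
      have h2 : u = v := h'
      exact ⟨by rw [h2, h1], h1⟩
    · have h1 : u * v = 1 := h
      have h3 : u = v := h'
      rw [h3] at h1
      have h4 := h2 v h1
      exact ⟨by rw [h3, h4], h4⟩
  rcases lt_or_gt_of_ne hne with h | h
  · exact key k k' h hk hk'
  · exact key k' k h hk' hk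

theorem cls {F : Type*} [Field F] (h2 : ∀ c : F, c * c = 1 → c = 1) {l : Fin 2 × Bool → F}
    (hl : ∀ y, l y * l (neg y) = 1) {a b : Fin 2 × Bool} (hab : Ok a b) (h : l a * l b = 1) :
    ∃ k : Fin 4, (wt a + wt b = om k ∨ wt a + wt b = -om k) ∧ CC (l (0, true)) (l (1, true)) k := by
  have e0 : l (0, true) * l (0, false) = 1 := hl (0, true)
  have e1 : l (1, true) * l (1, false) = 1 := hl (1, true)
  have n0 : l (0, true) ≠ 0 := left_ne_zero_of_mul_eq_one e0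
  have n1 : l (1, true) ≠ 0 := left_ne_zero_of_mul_eq_one e1
  have f0 : l (0, false) = (l (0, true))⁻¹ := eq_inv_of_mul_eq_one_right e0
  have f1 : l (1, false) = (l (1, true))⁻¹ := eq_inv_of_mul_eq_one_right e1
  obtain ⟨i, s⟩ := a
  obtain ⟨j, t⟩ := b
  have hs : i = j → s = t := by
    intro hij
    rcases hab with h3 | h3
    · exact absurd hij h3
    · exact congrArg Prod.snd h3
  obtain ⟨u, hu⟩ : ∃ u, l (0, true) = u := ⟨_, rfl⟩
  obtain ⟨v, hv⟩ : ∃ v, l (1, true) = v := ⟨_, rfl⟩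
  rw [hu] at f0 n0
  rw [hv] at f1 n1
  rw [hu, hv]
  have key0 : ∀ s, l (0, s) * l (0, s) = 1 → u = 1 := by
    intro s h3
    cases s
    · rw [f0] at h3
      exact inv_eq_one.1 (h2 _ h3)
    · rw [hu] at h3
      exact h2 _ h3
  have key1 : ∀ s, l (1, s) * l (1, s) = 1 → v = 1 := by
    intro s h3
    cases s
    · rw [f1] at h3
      exact inv_eq_one.1 (h2 _ h3)
    · rw [hv] at h3
      exact h2 _ h3
  have key2 : ∀ s t, l (0, s) * l (1, t) = 1 → (s = t → u * v = 1) ∧ (s ≠ t → u = v) := by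
    intro s t h3
    cases s <;> cases t
    · refine ⟨fun _ => ?_, fun h4 => absurd rfl h4⟩
      rw [f0, f1, ← mul_inv, inv_eq_one] at h3
      exact h3
    · refine ⟨fun h4 => by simp at h4, fun _ => ?_⟩
      rw [f0, hv, inv_mul_eq_one₀ n0] at h3
      exact h3
    · refine ⟨fun h4 => by simp at h4, fun _ => ?_⟩
      rw [hu, f1, mul_inv_eq_one₀ n1] at h3
      exact h3
    · refine ⟨fun _ => ?_, fun h4 => absurd rfl h4⟩
      rw [hu, hv] at h3
      exact h3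
  fin_cases i <;> fin_cases j
  · have hst := hs rfl
    subst hst
    refine ⟨0, ?_, key0 s h⟩
    clear h hab hs
    revert s
    decide
  · have h3 := key2 s t h
    by_cases hst : s = t
    · refine ⟨2, ?_, h3.1 hst⟩
      subst hst
      clear h3 h hab
      revert s
      decide
    · refine ⟨3, ?_, h3.2 hst⟩
      clear h3 h hab hs
      revert s t
      decide
  · have h3 := key2 t s (by rw [mul_comm]; exact h)
    by_cases hst : t = s
    · refine ⟨2, ?_, h3.1 hst⟩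
      subst hst
      clear h3 h hab hs
      revert t
      decide
    · refine ⟨3, ?_, h3.2 hst⟩
      clear h3 h hab hs
      revert s t
      decide
  · have hst := hs rfl
    subst hst
    refine ⟨1, ?_, key1 s h⟩
    clear h hab hs
    revert s
    decide

end comb

section sp

variable {F : Type*} [Field F]

theorem sq_one [CharP F 2] {c : F} (h : c * c = 1) : c = 1 := by
  have h1 : (c - 1) * (c - 1) = 0 := by
    have h2 : (2 : F) = 0 := by exact_mod_cast CharP.cast_eq_zero F 2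
    linear_combination h + (1 - c) * h2
  exact sub_eq_zero.1 (mul_self_eq_zero.1 h1)

theorem toPSp_injective [CharP F 2] : Function.Injective (toPSp (m := 2) (F := F)) := by
  rw [injective_iff_map_eq_one]
  intro g hg
  obtain ⟨a, ha, h⟩ := exists_smul_of_toPSp_eq_one hg
  rw [sq] at ha
  rw [sq_one ha] at h
  apply Subtype.ext
  apply LinearEquiv.ext
  intro v
  rw [h v, one_smul]
  rfl

/-- the frame -/
abbrev fr (F : Type*) [Field F] := frame 2 F

theorem b_ne (y : Fin 2 × Bool) : (fr F).b y ≠ 0 := by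
  intro h
  have h1 := (fr F).hb_self_neg y
  rw [h] at h1
  have h2 : (form 2 F).h (0 : Fin 2 ⊕ Fin 2 → F) ((fr F).b (neg y)) = 0 := HForm.zero_left _ _
  rw [h2] at h1
  exact (fr F).η_ne _ h1.symm

theorem scal_mul {g : (Fin 2 ⊕ Fin 2 → F) ≃ₗ[F] (Fin 2 ⊕ Fin 2 → F)} (hg : g ∈ isos (form 2 F))
    {l : Fin 2 × Bool → F} (hl : ∀ y, g ((fr F).b y) = l y • (fr F).b y) (y : Fin 2 × Bool) : l y * l (neg y) = 1 := by
  have h1 := hg ((fr F).b y) ((fr F).b (neg y))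
  rw [hl, hl, HForm.smul_left, HForm.smul_right, form_σ, ← mul_assoc] at h1
  refine mul_right_cancel₀ (b := (form 2 F).h ((fr F).b y) ((fr F).b (neg y))) ?_ (by rw [one_mul]; exact h1)
  rw [(fr F).hb_self_neg]
  exact (fr F).η_ne _

theorem eq_of_scal {g k : (Fin 2 ⊕ Fin 2 → F) ≃ₗ[F] (Fin 2 ⊕ Fin 2 → F)}
    (hl : ∀ y, g ((fr F).b y) = k ((fr F).b y)) : g = k := by
  have h1 : g.toLinearMap = k.toLinearMap := by
    refine LinearMap.ext_on span_ef ?_
    rintro v (⟨i, rfl⟩ | ⟨i, rfl⟩)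
    · exact hl (i, true)
    · exact hl (i, false)
  apply LinearEquiv.ext
  intro v
  exact congrArg (fun f : (Fin 2 ⊕ Fin 2 → F) →ₗ[F] (Fin 2 ⊕ Fin 2 → F) => f v) h1

theorem eq_one_of_scal {g : (Fin 2 ⊕ Fin 2 → F) ≃ₗ[F] (Fin 2 ⊕ Fin 2 → F)}
    (hl : ∀ y, g ((fr F).b y) = (fr F).b y) : g = 1 := eq_of_scal hl

/-- commuting with a root element -/
theorem of_comm {g k : (Fin 2 ⊕ Fin 2 → F) ≃ₗ[F] (Fin 2 ⊕ Fin 2 → F)} (hg : g ∈ isos (form 2 F))
    {l : Fin 2 × Bool → F} (hl : ∀ y, g ((fr F).b y) = l y • (fr F).b y) {a b : Fin 2 × Bool} (hab : Ok a b)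
    (hk : k ∈ PG (fr F) a b) (hk1 : k ≠ 1) (hgk : g * k = k * g) : l a * l b = 1 := by
  have happ : ∀ v, g (k v) = k (g v) := fun v => congrArg (fun f => f v) hgk
  rcases hab with h | rfl
  · rw [PG_ne _ h] at hk
    obtain ⟨t, rfl⟩ := hk
    have ht : t ≠ 0 := by
      rintro rfl
      exact hk1 ((fr F).X_zero a b)
    have h1 := happ ((fr F).b (neg b))
    rw [hl, map_smul, X_apply_neg (fr F) h, map_add, map_smul, hl, hl, smul_add] at h1
    have h2 := add_left_cancel h1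
    rw [smul_smul, smul_smul] at h2
    have h3 := smul_left_injective F (b_ne (F := F) a) h2
    have h4 : l a = l (neg b) := by
      rw [mul_comm (l (neg b))] at h3
      exact mul_left_cancel₀ ht h3
    rw [h4, mul_comm]
    exact scal_mul hg hl b
  · rw [PG_self] at hk
    obtain ⟨p, rfl⟩ := hk
    have hw : p.w = 0 := p.ok
    have hc : p.c ≠ 0 := by
      intro h
      apply hk1
      have : p = 1 := Frame.Adm.ext hw h
      rw [this]
      exact (fr F).Z_one a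
    have h1 := happ ((fr F).b (neg a))
    rw [hl, map_smul, Z_apply_neg (fr F), hw, smul_zero, add_zero, map_add, map_smul, hl, hl, smul_add] at h1
    have h2 := add_left_cancel h1
    rw [smul_smul, smul_smul] at h2
    have h3 := smul_left_injective F (b_ne (F := F) a) h2
    have h4 : l a = l (neg a) := by
      rw [mul_comm (l (neg a))] at h3
      exact mul_left_cancel₀ (mul_ne_zero hc ((fr F).η_ne a)) h3
    nth_rw 2 [h4]
    exact scal_mul hg hl a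

/-- the torus, the root groups -/
noncomputable abbrev TT (F : Type*) [Field F] : Subgroup (PSp 2 F) := Cfsg.Agent.Nodes.WittModel.T (KInstSp.model 2 F)

noncomputable abbrev XX (F : Type*) [Field F] : (Fin 2 → ℤ) → Subgroup (PSp 2 F) := Cfsg.Agent.Nodes.WittModel.X (KInstSp.model 2 F)

theorem mem_TT {x : PSp 2 F} (hx : x ∈ TT F) : ∃ (g : (Fin 2 ⊕ Fin 2 → F) ≃ₗ[F] (Fin 2 ⊕ Fin 2 → F))
    (hg : g ∈ isos (form 2 F)) (l : Fin 2 × Bool → F), x = toPSp ⟨g, hg⟩ ∧ ∀ y, g ((fr F).b y) = l y • (fr F).b y := by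
  obtain ⟨⟨g, hg⟩, h1, rfl⟩ := hx
  have h2 : g ∈ Tor (fr F) (isos (form 2 F)) := h1
  obtain ⟨-, h3⟩ := h2
  choose l _ hl using h3
  exact ⟨g, hg, l, rfl, hl⟩

theorem of_nf [CharP F 2] {W : Type*} [Group W] (cs : CoxeterSystem (CoxeterMatrix.B 2) W)
    {g : (Fin 2 ⊕ Fin 2 → F) ≃ₗ[F] (Fin 2 ⊕ Fin 2 → F)} (hg : g ∈ isos (form 2 F))
    {l : Fin 2 × Bool → F} (hl : ∀ y, g ((fr F).b y) = l y • (fr F).b y) {z : Fin 2 → ℤ}
    (hz : IsRoot cs (isCartan 2) z) (hf : NF (XX F) (toPSp ⟨g, hg⟩) z) :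
    ∃ k : Fin 4, (ee z = om k ∨ ee z = -om k) ∧ CC (l (0, true)) (l (1, true)) k := by
  obtain ⟨a, b, hab, e⟩ := exists_of_isRoot cs hz
  obtain ⟨u, hu, hu1, hxu⟩ := hf
  obtain ⟨k, hkI, hk, rfl⟩ := (mem_X (KInstSp.model 2 F)).1 hu
  rw [rg_eq (fr F) hab e] at hk
  have h1 : g * k = k * g := by
    have h2 : toPSp (⟨g, hg⟩ * ⟨k, hkI⟩ : isos (form 2 F)) = toPSp (⟨k, hkI⟩ * ⟨g, hg⟩ : isos (form 2 F)) := by
      rw [map_mul, map_mul]
      exact hxu
    exact congrArg Subtype.val (toPSp_injective h2)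
  have hk1 : k ≠ 1 := by
    rintro rfl
    exact hu1 (map_one (toPSp (m := 2) (F := F)))
  rw [e]
  exact cls (fun c hc => sq_one hc) (scal_mul hg hl) hab (of_comm hg hl hab hk hk1 h1)

/-- **At most one pair of root groups.** -/
theorem hone [CharP F 2] {W : Type*} [Group W] (cs : CoxeterSystem (CoxeterMatrix.B 2) W) {x : PSp 2 F}
    (hx : x ∈ TT F) (hx1 : x ≠ 1) (z z' : Fin 2 → ℤ) (hz : IsRoot cs (isCartan 2) z)
    (hz' : IsRoot cs (isCartan 2) z') (hf : NF (XX F) x z) (hf' : NF (XX F) x z') : z = z' ∨ z = -z' := by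
  obtain ⟨g, hg, l, rfl, hl⟩ := mem_TT hx
  obtain ⟨k, hk, hc⟩ := of_nf cs hg hl hz hf
  obtain ⟨k', hk', hc'⟩ := of_nf cs hg hl hz' hf'
  by_cases hkk : k = k'
  · subst hkk
    rcases hk with hk | hk <;> rcases hk' with hk' | hk'
    · exact Or.inl (ee_injective (hk.trans hk'.symm))
    · right
      apply ee_injective
      rw [ee_neg, hk, hk', _root_.neg_neg]
    · right
      apply ee_injective
      rw [ee_neg, hk, hk']
    · exact Or.inl (ee_injective (hk.trans hk'.symm))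
  · exfalso
    obtain ⟨h0, h1⟩ := cc_eq (fun c hc => sq_one hc) hc hc' hkk
    have hs := scal_mul hg hl
    have e0 : l (0, true) * l (0, false) = 1 := hs (0, true)
    have e1 : l (1, true) * l (1, false) = 1 := hs (1, true)
    rw [h0, one_mul] at e0
    rw [h1, one_mul] at e1
    apply hx1
    have h3 : g = 1 := by
      refine eq_one_of_scal fun y => ?_
      rw [hl]
      obtain ⟨i, s⟩ := y
      have h4 : l (i, s) = 1 := by
        fin_cases i <;> cases s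
        · exact e0
        · exact h0
        · exact e1
        · exact h1
      rw [h4, one_smul]
    subst h3
    exact map_one _

theorem TT_comm {x y : PSp 2 F} (hx : x ∈ TT F) (hy : y ∈ TT F) : x * y = y * x := by
  obtain ⟨g, hg, l, rfl, hl⟩ := mem_TT hx
  obtain ⟨k, hk, m, rfl, hm⟩ := mem_TT hy
  rw [← map_mul, ← map_mul]
  congr 1
  apply Subtype.ext
  change g * k = k * g
  refine eq_of_scal fun y => ?_
  change g (k ((fr F).b y)) = k (g ((fr F).b y))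
  rw [hl, hm, map_smul, map_smul, hl, hm, smul_smul, smul_smul, mul_comm]

/-- torus elements -/
theorem mem_TT_dg (t : Fin 2 → Fˣ) : toPSp ⟨ofSp (Cfsg.Agent.S0777.dg t), ofSp_mem _⟩ ∈ TT F := by
  refine Subgroup.mem_map_of_mem _ (Subgroup.mem_subgroupOf.2 ⟨ofSp_mem _, ?_⟩)
  rintro ⟨i, s⟩
  cases s
  · refine ⟨t i, (t i).ne_zero, ?_⟩
    funext j
    change ((Cfsg.Agent.S0777.dg t : Matrix.symplecticGroup (Fin 2) F) :
      Matrix (Fin 2 ⊕ Fin 2) (Fin 2 ⊕ Fin 2) F).mulVec (Pi.single (Sum.inl i) 1) j = _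
    rw [Cfsg.Agent.S0777.dg_mulVec]
    change _ = (t i : F) * (Pi.single (Sum.inl i) 1 : Fin 2 ⊕ Fin 2 → F) j
    by_cases hj : j = Sum.inl i
    · subst hj; simp
    · rw [Pi.single_eq_of_ne hj, mul_zero, mul_zero]
  · refine ⟨((t i)⁻¹ : Fˣ), ((t i)⁻¹).ne_zero, ?_⟩
    funext j
    change ((Cfsg.Agent.S0777.dg t : Matrix.symplecticGroup (Fin 2) F) :
      Matrix (Fin 2 ⊕ Fin 2) (Fin 2 ⊕ Fin 2) F).mulVec (Pi.single (Sum.inr i) 1) j = _
    rw [Cfsg.Agent.S0777.dg_mulVec]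
    change _ = (((t i)⁻¹ : Fˣ) : F) * (Pi.single (Sum.inr i) 1 : Fin 2 ⊕ Fin 2 → F) j
    by_cases hj : j = Sum.inr i
    · subst hj; simp
    · rw [Pi.single_eq_of_ne hj, mul_zero, mul_zero]

/-- the homomorphism to the torus -/
noncomputable def tdg (F : Type*) [Field F] : Fˣ →* Matrix.symplecticGroup (Fin 2) F where
  toFun u := Cfsg.Agent.S0777.dg (fun _ => u)
  map_one' := by
    apply Subtype.ext
    rw [← Matrix.mulVec_injective.eq_iff]
    funext v j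
    rw [Cfsg.Agent.S0777.dg_mulVec]
    change _ = ((1 : Matrix (Fin 2 ⊕ Fin 2) (Fin 2 ⊕ Fin 2) F).mulVec v) j
    rw [Matrix.one_mulVec]
    rcases j with j | j <;> simp
  map_mul' u v := by
    apply Subtype.ext
    rw [← Matrix.mulVec_injective.eq_iff]
    funext w j
    rw [Submonoid.coe_mul, ← Matrix.mulVec_mulVec, Cfsg.Agent.S0777.dg_mulVec, Cfsg.Agent.S0777.dg_mulVec,
      Cfsg.Agent.S0777.dg_mulVec]
    rcases j with j | j
    · simp only [Sum.elim_inl, Units.val_mul, mul_assoc]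
    · simp only [Sum.elim_inr, mul_inv, Units.val_mul, mul_assoc]

theorem tdg_injective : Function.Injective (tdg F) := by
  intro u v h
  have h1 := congrArg (fun A : Matrix.symplecticGroup (Fin 2) F =>
    (A : Matrix (Fin 2 ⊕ Fin 2) (Fin 2 ⊕ Fin 2) F).mulVec (fun _ => 1) (Sum.inl 0)) h
  have h2 : ∀ w : Fˣ, (tdg F w : Matrix (Fin 2 ⊕ Fin 2) (Fin 2 ⊕ Fin 2) F).mulVec (fun _ => 1) (Sum.inl 0) = (w : F) := by
    intro w
    change ((Cfsg.Agent.S0777.dg (fun _ => w) : Matrix.symplecticGroup (Fin 2) F) :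
      Matrix (Fin 2 ⊕ Fin 2) (Fin 2 ⊕ Fin 2) F).mulVec (fun _ => 1) (Sum.inl 0) = _
    rw [Cfsg.Agent.S0777.dg_mulVec, mul_one]
    rfl
  simp only [h2] at h1
  exact Units.ext h1

/-- **Elements of prime order of the torus.** -/
theorem exists_tor [CharP F 2] [Fintype F] {p : ℕ} [hp : Fact p.Prime] (hd : p ∣ Fintype.card F - 1) :
    ∃ x ∈ TT F, orderOf x = p := by
  obtain ⟨u, hu⟩ := exists_prime_orderOf_dvd_card' (G := Fˣ) p (by
    rw [Nat.card_units, Nat.card_eq_fintype_card]; exact hd)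
  refine ⟨_, mem_TT_dg (fun _ => u), ?_⟩
  have h1 : ∀ w : Fˣ, toPSp ⟨ofSp (Cfsg.Agent.S0777.dg (fun _ => w)), ofSp_mem _⟩ =
      ((QuotientGroup.mk' (Subgroup.center (Matrix.symplecticGroup (Fin 2) F))).comp (tdg F)) w := by
    intro w
    change QuotientGroup.mk' _ (toSp _) = QuotientGroup.mk' _ _
    rw [toSp_ofSp]
    rfl
  rw [h1, orderOf_injective, hu]
  intro a b hab
  rw [← h1, ← h1] at hab
  have h2 := congrArg toSp (toPSp_injective hab)
  rw [toSp_ofSp, toSp_ofSp] at h2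
  exact tdg_injective h2

end sp

end Cfsg.Agent.H649.VanSp4
end

-- part: H649/VanSp4/Main
section
/-!
# `PSp₄(q)`, `q ≥ 8` even, `p ∣ q - 1`: the row of S4555 and S4559 (helper649)

* `vOrdP_sp4`.
-/

set_option autoImplicit false

open Cfsg

namespace Cfsg.Agent.H649.VanSp4

open CoxeterSystem Cfsg.Agent.ChevalleyStructure.CoxeterGeom Cfsg.Agent.Tits.Roots Cfsg.Agent.Tits.Core
  Cfsg.Agent.Nodes.Reps Cfsg.Agent.Nodes.BNOf Cfsg.Agent.Nodes.Bruhat Cfsg.Agent.Nodes.LeviDec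
  Cfsg.Agent.Nodes.StabComb Cfsg.Agent.Nodes.TypeC Cfsg.Agent.TitsThree Cfsg.Agent.H811.PSq

theorem card_B2 : Nat.card (CoxeterMatrix.B 2).Group = 8 :=
  S1092.result (⟨2, CoxeterMatrix.B 2⟩, 8) (by simp)

variable {F : Type} [Field F] [Fintype F] [CharP F 2]

theorem card_psp4 : Nat.card (PSp 2 F) =
    Fintype.card F ^ 4 * ((Fintype.card F ^ 2 - 1) * (Fintype.card F ^ 4 - 1)) := by
  rw [← Nat.card_congr (H292.SpCen.spEquiv (F := F) 2).toEquiv, Cfsg.Agent.S0245.result rfl 2]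
  simp only [Finset.prod_range_succ, _root_.Nat.reducePow, _root_.Finset.prod_range_succ, _root_.Finset.range_one, _root_.Finset.prod_singleton, _root_.zero_add, _root_.mul_one, _root_.Nat.reduceAdd, _root_.Nat.reduceMul]

/-- the exceptional characters -/
theorem exists_E (hq : 8 ≤ Fintype.card F) : ∃ E : Finset (IrrCharacter (PSp 2 F)), 8 < E.card ∧
    ∀ χ ∈ E, ∀ χ' ∈ E, ∀ P : Subgroup (PSp 2 F), (Nat.card P).Coprime (Fintype.card F ^ 2 + 1) →
      ∀ x ∈ P, (χ : PSp 2 F → ℂ) x = (χ' : PSp 2 F → ℂ) x := by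
  classical
  have hfin : Finite (PSp 2 F) := Finite.of_equiv _ (H292.SpCen.spEquiv (F := F) 2).toEquiv
  have := Fintype.ofFinite (PSp 2 F)
  obtain ⟨q, hqe⟩ : ∃ q, q = Fintype.card F := ⟨_, rfl⟩
  have hcard := card_psp4 (F := F)
  have hcyc := cycExact_psp (F := F)
  have h2 : 2 ∣ Fintype.card F := two_dvd_card
  rw [← hqe] at hq hcard hcyc h2 ⊢
  obtain ⟨k, rfl⟩ := h2
  have h1 : 1 ≤ (2 * k) ^ 2 := Nat.one_le_pow _ _ (by omega)
  have h4 : 1 ≤ (2 * k) ^ 4 := Nat.one_le_pow _ _ (by omega)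
  have hk : 16 ≤ k ^ 2 := by nlinarith only [hq]
  obtain ⟨E, hE1, hE2⟩ := exists_family (a := (2 * k) ^ 2 + 1) (e := 4) (s := k ^ 2) hcyc (by linarith only [hk]) (by linarith only [hk])
    (N := ((2 * k : ℕ) : ℤ) ^ 4 * (((2 * k : ℕ) : ℤ) ^ 2 - 1) ^ 2) (by
      rw [hcard]
      push_cast [Nat.cast_sub h1, Nat.cast_sub h4]
      ring) (by
      have h5 : (((2 * k) ^ 2 + 1 : ℕ) : ZMod ((2 * k) ^ 2 + 1)) = 0 := ZMod.natCast_self _
      push_cast at h5 ⊢
      have h6 : (2 * (k : ZMod ((2 * k) ^ 2 + 1))) ^ 2 = -1 := eq_neg_of_add_eq_zero_left h5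
      rw [show (4 : ℕ) = 2 * 2 by norm_num, pow_mul, h6]
      norm_num) (by ring) (by omega)
  exact ⟨E, by omega, hE2⟩

theorem V_ne_bot {I W Y : Type*} [Fintype I] [DecidableEq I] [Group W] [Group Y] {M : CoxeterMatrix I}
    {cs : CoxeterSystem M W} {A : I → I → ℤ} {h : IsCartan M A} {r : ℕ} {T : Subgroup Y} {n : I → Y}
    {X : (I → ℤ) → Subgroup Y} (R : RGD cs h r T n X) [Finite W] {i j : I} (hij : j ≠ i) : VJ cs h X {i} ≠ ⊥ := by
  intro hV
  apply X_ne_bot R (isRoot_sr cs h j)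
  rw [eq_bot_iff, ← hV]
  exact RGD.le_Sup (sr_mem_NotJ (cs := cs) (h := h) (J := {i}) (i := j) hij)

/-- **`PSp₄(q)`, `q ≥ 8` even, `p ∣ q - 1`.** -/
theorem vOrdP_sp4 (hq : 8 ≤ Fintype.card F) {p : ℕ} [hp : Fact p.Prime] (hd : p ∣ Fintype.card F - 1) :
    H620.PNorm.VOrdP p (PSp 2 F) := by
  classical
  have hfin : Finite (PSp 2 F) := Finite.of_equiv _ (H292.SpCen.spEquiv (F := F) 2).toEquiv
  have := Fact.mk Nat.prime_two
  have hW : Finite (CoxeterMatrix.B 2).Group := finite_W (CoxeterMatrix.B 2).toCoxeterSystem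
  obtain ⟨E, hE1, hE2⟩ := exists_E (F := F) hq
  obtain ⟨x, hx, hxp⟩ := exists_tor (F := F) hd
  have R := Nodes.WittAll.rgdC_model (p := 2) (KInstSp.model 2 F)
    (Nodes.WittAll.AmbT.of_amb Nodes.WittU.amb_Sp 2) (p0 := SpIdent.adm 1) one_ne_zero
    (CoxeterMatrix.B 2).toCoxeterSystem
  refine ⟨x, hxp, vz_of_family R ?_ (fun a ha b hb => TT_comm ha hb) E hE2 ?_ (by omega) (by rw [card_B2]; exact hE1)
    hx (hone _ hx ?_)⟩
  · rw [eq_top_iff, ← Nodes.WittModel.G1_eq_top (KInstSp.model 2 F) (by norm_num)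
      (CoxeterMatrix.B 2).toCoxeterSystem]
    exact le_sup_right
  · intro i
    obtain ⟨j, hj⟩ : ∃ j : Fin 2, j ≠ i := exists_ne i
    refine cop_psp (K := VJ (CoxeterMatrix.B 2).toCoxeterSystem (isCartan 2)
      (Nodes.WittModel.X (KInstSp.model 2 F)) {i}) ?_ (V_ne_bot R hj) (PJ_le_normalizer_VJ R {i})
    exact R.isPGroup_Upos.to_le (VJ_le_U {i})
  · rintro rfl
    rw [orderOf_one] at hxp
    exact hp.out.one_lt.ne hxp

end Cfsg.Agent.H649.VanSp4
end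

-- part: H720/PV/PSpV
section
/-!
# The row `PSp_{2m}(q)` of S4555 and S4559, `m ≥ 3` or `q` odd (helper720)

* `psp_char_v` : the top character of `PSp` vanishes at the images of the elements of order prime to the characteristic
  with a non-zero fixed vector;
* `vz_psp` : these elements are `VZ`.
-/

set_option autoImplicit false

namespace Cfsg.Agent.H720.PV

open Cfsg Matrix Module Cfsg.Agent.Characters Cfsg.Agent.H53.HC Cfsg.Agent.H477.HC Cfsg.Agent.H620.PNorm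
open Cfsg.Agent.ClassicalGeometry.SympAutSemi

section Char

variable {K : Type} [Field K] [Finite K]

theorem psp_char_v {m : ℕ} {Z : Kˣ → Prop} {c : GL (Fin m) K → ℂ}
    (hc : Cus K m (RingHom.id K) Z c) (hv : PVan c) (h1 : Z 1) (hZ : Z (-1)) :
    ∃ χ : IrrCharacter (PSp m K), ∀ (A : symplecticGroup (Fin m) K) (n : ℕ), (n : K) ≠ 0 → A ^ n = 1 → A ≠ 1 →
      (∃ v : Fin m ⊕ Fin m → K, v ≠ 0 ∧ (A : Matrix (Fin m ⊕ Fin m) (Fin m ⊕ Fin m) K) *ᵥ v = v) →
      (χ : PSp m K → ℂ) (QuotientGroup.mk A) = 0 := by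
  classical
  obtain ⟨p, hp⟩ := CharP.exists K
  have hpr : p.Prime := (CharP.char_is_prime_or_zero K p).resolve_right (CharP.char_ne_zero_of_finite K p)
  have : Fact p.Prime := ⟨hpr⟩
  obtain ⟨⟨W₀, hW₀⟩, -⟩ := CForm.spF_frame (K := K) (p := p) m 0
  obtain ⟨χ, hχ, -, hχz, hχv⟩ := exists_char_v (CForm.spF K m) (k := m) hW₀ (Z := Z) (c := c) hc hv
  have hfin : Finite (symplecticGroup (Fin m) K) := inferInstance
  have hχ' : IsIrrCharacter _ (χ ∘ (isoSp m K).toMonoidHom) :=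
    Core.isIrr_comp (isoSp m K).toMonoidHom (isoSp m K).surjective hχ
  obtain ⟨η, hη, hη'⟩ := exists_quot (Subgroup.center (symplecticGroup (Fin m) K)) hχ' (fun z hz => by
    change χ (isoSp m K z) = χ (isoSp m K 1)
    rw [map_one]
    rcases Cfsg.Agent.ClassicalGeometry.SympInvolutions.center_eq hz with h | h
    · refine hχz _ 1 h1 fun v => ?_
      rw [isoSp_apply, h, Matrix.one_mulVec, Units.val_one, one_smul]
    · refine hχz _ (-1) hZ fun v => ?_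
      rw [isoSp_apply, h, Matrix.neg_mulVec, Matrix.one_mulVec, Units.val_neg, Units.val_one, neg_one_smul])
  refine ⟨⟨η, hη⟩, fun A n hn hA hA1 ⟨v, hv0, hv1⟩ => ?_⟩
  change η (QuotientGroup.mk A) = 0
  rw [hη']
  change χ (isoSp m K A) = 0
  have hs : ((isoSp m K A : (CForm.spF K m).iso) : (Fin m ⊕ Fin m → K) ≃ₗ[K] (Fin m ⊕ Fin m → K)) ^ n = 1 := by
    rw [← Subgroup.coe_pow, ← map_pow, hA, map_one]
    rfl
  have hdim : finrank K (Fin m ⊕ Fin m → K) = 2 * m := by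
    rw [Module.finrank_fintype_fun_eq_card, Fintype.card_sum, Fintype.card_fin]; ring
  have h3 := finrank_fix_add_mov
    ((isoSp m K A : (CForm.spF K m).iso) : (Fin m ⊕ Fin m → K) ≃ₗ[K] (Fin m ⊕ Fin m → K))
  have h4 : 0 < finrank K (LinearMap.ker ((((isoSp m K A : (CForm.spF K m).iso) :
      (Fin m ⊕ Fin m → K) ≃ₗ[K] (Fin m ⊕ Fin m → K)) : (Fin m ⊕ Fin m → K) →ₗ[K] _) - LinearMap.id)) := by
    rw [Module.finrank_pos_iff]
    refine ⟨⟨⟨v, ?_⟩, 0, ?_⟩⟩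
    · rw [LinearMap.mem_ker, LinearMap.sub_apply, LinearMap.id_apply, sub_eq_zero]
      exact hv1
    · intro h
      exact hv0 (congrArg Subtype.val h)
  have h5 : 0 < finrank K (mov ((isoSp m K A : (CForm.spF K m).iso) :
      (Fin m ⊕ Fin m → K) ≃ₗ[K] (Fin m ⊕ Fin m → K))) := by
    rw [Module.finrank_pos_iff]
    obtain ⟨w, hw⟩ : ∃ w : Fin m ⊕ Fin m → K, (A : Matrix (Fin m ⊕ Fin m) (Fin m ⊕ Fin m) K) *ᵥ w ≠ w := by
      by_contra hcon
      push Not at hcon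
      apply hA1
      apply Subtype.ext
      apply Matrix.mulVec_injective
      funext w
      change (A : Matrix (Fin m ⊕ Fin m) (Fin m ⊕ Fin m) K) *ᵥ w = (1 : Matrix (Fin m ⊕ Fin m) (Fin m ⊕ Fin m) K) *ᵥ w
      rw [hcon, Matrix.one_mulVec]
    refine ⟨⟨⟨_, ⟨w, rfl⟩⟩, 0, ?_⟩⟩
    intro h
    apply hw
    have h6 := congrArg Subtype.val h
    exact sub_eq_zero.1 h6
  refine hχv (isoSp m K A) n hn hs (by omega) (exists_moved_of_dim (CForm.spF K m) hn hs (by omega))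

end Char

section Row

variable {K : Type} [Field K] [Finite K]

/-- `m ≥ 3` or `q` odd: all automorphisms are induced by semisimilitudes -/
theorem range_Psi {m : ℕ} (hm : 2 ≤ m) (h : 3 ≤ m ∨ (2 : K) ≠ 0) (α : MulAut (PSp m K)) : ∃ g, Psi m K g = α := by
  have := Fintype.ofFinite K
  obtain ⟨g, hg⟩ := Cfsg.Agent.ClassicalGeometry.SympAutExists.exists_semi hm α
    (Cfsg.Agent.ClassicalGeometry.SympAutOddA.recog hm h α)
  exact ⟨g, hg⟩

theorem vz_psp {m : ℕ} (hm : 2 ≤ m) (h : 3 ≤ m ∨ (2 : K) ≠ 0) {Z : Kˣ → Prop} {c : GL (Fin m) K → ℂ}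
    (hc : Cus K m (RingHom.id K) Z c) (hv : PVan c) (h1 : Z 1) (hZ : Z (-1)) {A : symplecticGroup (Fin m) K} {n : ℕ}
    (hn : (n : K) ≠ 0) (hA : A ^ n = 1) (hA1 : A ≠ 1)
    (hA2 : ∃ v : Fin m ⊕ Fin m → K, v ≠ 0 ∧ (A : Matrix (Fin m ⊕ Fin m) (Fin m ⊕ Fin m) K) *ᵥ v = v) :
    H713.VZ (PSp m K) (QuotientGroup.mk A) := by
  obtain ⟨χ, hχ⟩ := psp_char_v hc hv h1 hZ
  refine ⟨χ, fun α => ?_⟩
  obtain ⟨g, rfl⟩ := range_Psi hm h α
  rw [Psi_mk]
  refine hχ _ n hn ?_ ?_ ?_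
  · rw [← map_pow, hA, map_one]
  · intro h
    exact hA1 ((conjHom m K g).injective (by rw [h, map_one]))
  · obtain ⟨v, hv0, hv1⟩ := hA2
    obtain ⟨φ, l, hl, hg⟩ := g.2
    refine ⟨g.1 v, ?_, ?_⟩
    · intro h0
      have h2 : g.1 0 = 0 := by
        have := hg.1 0 0
        rw [add_zero] at this
        exact left_eq_add.1 this
      exact hv0 (g.1.injective (h0.trans h2.symm))
    · have h3 := rho_conjHom g A
      have h4 := DFunLike.congr_fun h3 (g.1 v)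
      rw [Equiv.Perm.mul_apply, Equiv.Perm.mul_apply, perm_inv_apply_self, rho_apply, rho_apply, hv1] at h4
      exact h4

end Row

end Cfsg.Agent.H720.PV
end

-- part: H720/PV/PSpRow
section
/-!
# The row `PSp_{2m}(q)` of S4555 and S4559 (helper720)

* `vOrdP_psp_gen` : `m ≥ 3` or `q` odd, `p ∣ q² - 1`, `(m, q) ≠ (2, 3)`;
* `vOrdP_psp_dz` : `p ∤ q² - 1`;
* `vOrdP_psp_three` : `(m, q) = (2, 3)`, `p = 2`.
-/

set_option autoImplicit false

namespace Cfsg.Agent.H720.PV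

open Cfsg Matrix Module Cfsg.Agent.Characters Cfsg.Agent.H53.HC Cfsg.Agent.H477.HC Cfsg.Agent.H620.PNorm
open Cfsg.Agent.H999.FxPSp Cfsg.Agent.H620 Cfsg.Agent.H665.NoPQ

/-- a character of `p`-defect zero -/
theorem vOrdP_of_hasDZ {S : Type*} [Group S] [Finite S] {p : ℕ} [Fact p.Prime] (h : HasDZ p S)
    (hd : p ∣ Nat.card S) : VOrdP p S := by
  obtain ⟨x, hx⟩ := exists_prime_orderOf_dvd_card' (G := S) p hd
  exact ⟨x, hx, H713.HasDZ.vz h (by rw [hx])⟩

theorem vOrdP_of_kill' {S : Type*} [Group S] [Finite S] {p : ℕ} [Fact p.Prime] (h : Kill S p)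
    (hd : p ∣ Nat.card S) : VOrdP p S := by
  obtain ⟨x, hx⟩ := exists_prime_orderOf_dvd_card' (G := S) p hd
  exact ⟨x, hx, h.vz (by rw [hx])⟩

/-- a character of degree divisible by `p`, Sylow subgroups of order `p` -/
theorem vOrdP_of_im {S : Type*} [Group S] [Finite S] {p : ℕ} [hp : Fact p.Prime] (h : H33.IM p S)
    (hd : p ∣ Nat.card S) (h1 : ¬ p ^ 2 ∣ Nat.card S) : VOrdP p S := by
  have hf : (Nat.card S).factorization p = 1 := by
    have h2 : 1 ≤ (Nat.card S).factorization p :=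
      (hp.out.pow_dvd_iff_le_factorization Nat.card_pos.ne').1 (by rwa [pow_one])
    have h3 : ¬ 2 ≤ (Nat.card S).factorization p := fun h =>
      h1 ((hp.out.pow_dvd_iff_le_factorization Nat.card_pos.ne').2 h)
    omega
  obtain ⟨χ, hχ⟩ := h
  refine vOrdP_of_hasDZ (H720.PV.hasDZ_of_degree χ.2 (Cfsg.Agent.Blocks.Basic.irr_one_eq_charDegree χ.2) ?_) hd
  rw [hf, pow_one]
  exact hχ

section Emb

variable {F : Type} [Field F]

theorem fix_emb {k l : ℕ} (a : symplecticGroup (Fin k) F) (hl : 1 ≤ l) :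
    ∃ v : Fin (k + l) ⊕ Fin (k + l) → F, v ≠ 0 ∧
      ((emb k l F (a, 1) : symplecticGroup (Fin (k + l)) F) : Matrix (Fin (k + l) ⊕ Fin (k + l)) _ F) *ᵥ v = v := by
  classical
  let e : Fin k ⊕ Fin l ≃ Fin (k + l) := finSumFinEquiv
  let j : Fin l := ⟨0, hl⟩
  refine ⟨Pi.single (Equiv.sumCongr e e (.inl (.inr j))) 1, ?_, ?_⟩
  · intro h
    have := congrFun h (Equiv.sumCongr e e (.inl (.inr j)))
    rw [Pi.single_eq_same] at this
    exact one_ne_zero this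
  · rw [Matrix.mulVec_single_one]
    funext i
    obtain ⟨i', rfl⟩ := (Equiv.sumCongr e e).surjective i
    have h1 : ((emb k l F (a, 1) : symplecticGroup (Fin (k + l)) F) : Matrix (Fin (k + l) ⊕ Fin (k + l)) _ F)
        (Equiv.sumCongr e e i') (Equiv.sumCongr e e (.inl (.inr j))) =
        H376.SpEmb.blkM a.1 (1 : Matrix (Fin l ⊕ Fin l) (Fin l ⊕ Fin l) F) i' (.inl (.inr j)) := by
      change H376.SpEmb.blkM a.1 (1 : Matrix (Fin l ⊕ Fin l) (Fin l ⊕ Fin l) F)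
        ((Equiv.sumCongr finSumFinEquiv finSumFinEquiv).symm (Equiv.sumCongr e e i'))
        ((Equiv.sumCongr finSumFinEquiv finSumFinEquiv).symm (Equiv.sumCongr e e (.inl (.inr j)))) = _
      rw [Equiv.symm_apply_apply, Equiv.symm_apply_apply]
    rw [Matrix.col_apply, h1]
    rcases i' with (i' | i') | (i' | i')
    · rw [Pi.single_eq_of_ne (by intro h; simpa using (Equiv.sumCongr e e).injective h)]
      rfl
    · by_cases hij : i' = j
      · rw [hij, Pi.single_eq_same]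
        simp [H376.SpEmb.blkM, Matrix.toBlocks₁₁]
      · rw [Pi.single_eq_of_ne (by intro h; apply hij; simpa using (Equiv.sumCongr e e).injective h)]
        simp [H376.SpEmb.blkM, Matrix.toBlocks₁₁, hij]
    · rw [Pi.single_eq_of_ne (by intro h; simpa using (Equiv.sumCongr e e).injective h)]
      rfl
    · rw [Pi.single_eq_of_ne (by intro h; simpa using (Equiv.sumCongr e e).injective h)]
      simp [H376.SpEmb.blkM, Matrix.toBlocks₂₁]

end Emb

section Row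

variable {F : Type} [Field F] [Fintype F] {r : ℕ} [hr : Fact r.Prime] [CharP F r]

theorem vOrdP_psp_gen {l p : ℕ} [hp : Fact p.Prime] (hl : 1 ≤ l) (h : 2 ≤ l ∨ (2 : F) ≠ 0)
    (h22 : l = 1 → 4 ≤ Fintype.card F) (hpr : p ≠ r) (hpq : p ∣ Fintype.card F ^ 2 - 1) :
    VOrdP p (PSp (1 + l) F) := by
  have hfin : Finite (symplecticGroup (Fin 1) F) := inferInstance
  obtain ⟨a, ha⟩ := exists_prime_orderOf_dvd_card' (G := symplecticGroup (Fin 1) F) p (by
    rw [card_one]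
    exact Dvd.dvd.mul_left hpq _)
  obtain ⟨c, hc, hv⟩ := exists_cus_sq_v F rfl (1 + l) (by omega)
    (fun h => by rw [Nat.card_eq_fintype_card] at h; by_contra h'; have := h22 (by omega); omega)
    (fun h => by rw [Nat.card_eq_fintype_card] at h; by_contra h'; have := h22 (by omega); omega)
    (fun _ => by omega)
  have hpF : (p : F) ≠ 0 := by
    rw [Ne, CharP.cast_eq_zero_iff F r]
    intro h
    exact hpr ((Nat.prime_dvd_prime_iff_eq hr.out hp.out).1 h).symm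
  have hA : orderOf (emb 1 l F (a, 1)) = p := by
    rw [orderOf_injective _ (emb_injective 1 l), Prod.orderOf_mk, ha, orderOf_one, Nat.lcm_one_right]
  refine ⟨i1 1 l F a, by rw [orderOf_injective _ (i1_injective hl), ha], ?_⟩
  refine vz_psp (m := 1 + l) (K := F) (n := p) (A := emb 1 l F (a, 1)) (by omega) ?_ hc hv (one_pow 2) neg_one_sq hpF
    ?_ ?_ (fix_emb a hl)
  · rcases h with h | h
    · left; omega
    · right; exact h
  · rw [← hA]; exact pow_orderOf_eq_one _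
  · intro h1
    rw [h1, orderOf_one] at hA
    exact hp.out.one_lt.ne hA

/-- `p ∤ q² - 1` -/
theorem vOrdP_psp_dz {m p : ℕ} [hp : Fact p.Prime] (hm : 2 ≤ m) (h3 : m = 2 → 3 ≤ Fintype.card F)
    (hs : IsSimpleGroup (PSp m F)) (hpr : p ≠ r) (hpq : ¬ p ∣ Fintype.card F ^ 2 - 1)
    (hd : p ∣ Nat.card (PSp m F)) : VOrdP p (PSp m F) := by
  classical
  have hq : Nat.card F = Fintype.card F := Nat.card_eq_fintype_card
  by_cases hsq : p ^ 2 ∣ Nat.card (PSp m F)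
  swap
  · have him : H33.IM p (PSp m F) := im_psp (PSp m F)
      ⟨F, inferInstance, inferInstance, m, hm, h3, ⟨MulEquiv.refl _⟩⟩ hs hd H579.RkThree.leftSp43 H579.RkThree.leftSp62
      H579.RkThree.leftSp63
    exact vOrdP_of_im him hd hsq
  have hN := H686.VO.pow_dvd_prod F (m := m) (r := r) hp.out hpr hsq
  refine vOrdP_of_hasDZ (H686.VO.hasDZ_psp F (r := r) hm hpr (by rwa [hq]) (fun h => ?_) (fun h h' h7 => ?_)
    (fun h h' h7 => ?_)) hd
  · have h4 := h3 h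
    rw [hq]
    by_contra h5
    have h6 : Fintype.card F = 3 := by omega
    rw [hq, h6, h] at hN
    have h7 : p ^ 2 ∣ 640 := by
      simpa only [Finset.prod_range_succ, _root_.Finset.range_one, _root_.Finset.prod_singleton, _root_.zero_add, _root_.mul_one, _root_.Nat.reducePow, _root_.Nat.add_one_sub_one, _root_.Nat.reduceAdd, _root_.Nat.reduceMul] using hN
    have h8 : p ∣ 2 ^ 7 * 5 := (dvd_pow_self p two_ne_zero).trans h7
    rw [h6] at hpq
    rcases hp.out.dvd_mul.1 h8 with h9 | h9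
    · have := (Nat.prime_dvd_prime_iff_eq hp.out Nat.prime_two).1 (hp.out.dvd_of_dvd_pow h9)
      subst this
      exact hpq (by norm_num)
    · have := (Nat.prime_dvd_prime_iff_eq hp.out (by norm_num)).1 h9
      subst this
      revert h7
      decide
  · rw [h', h, h7] at hN
    revert hN
    decide
  · rw [h', h, h7] at hN
    revert hN
    decide

/-- `PSp_4(3)`, `p = 2` -/
theorem vOrdP_psp_three (hF : Fintype.card F = 3) (hs : IsSimpleGroup (PSp 2 F)) : VOrdP 2 (PSp 2 F) := by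
  have h4 : Nat.card (GaloisField 2 2) = 4 := GaloisField.card 2 2 two_ne_zero
  have : Fintype (GaloisField 2 2) := Fintype.ofFinite _
  have h4' : Fintype.card (GaloisField 2 2) = 4 := by rw [← Nat.card_eq_fintype_card]; exact h4
  obtain ⟨e⟩ := Cfsg.Agent.S0822.result (F := GaloisField 2 2) (K := F) h4' hF
  have h : IsLieTypeChar 2 (PSp 2 F) := Or.inr (Or.inr (Or.inl
    ⟨GaloisField 2 2, inferInstance, inferInstance, inferInstance, 4, 2, by rw [h4']; norm_num, by norm_num,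
      by norm_num, ⟨e.symm⟩⟩))
  have hk := Cfsg.Agent.H387.VO.Own.kill_of_lie Nat.prime_two h
  refine vOrdP_of_kill' hk ?_
  have : Finite (symplecticGroup (Fin 1) F) := inferInstance
  have h1 : 2 ∣ Nat.card (symplecticGroup (Fin 1) F) := two_dvd_card le_rfl
  have h2 : Nat.card (symplecticGroup (Fin 1) F) ∣ Nat.card (PSp (1 + 1) F) :=
    Subgroup.card_dvd_of_injective (i1 1 1 F) (i1_injective le_rfl)
  exact h1.trans h2

end Row

end Cfsg.Agent.H720.PV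
end

-- part: H720/PV/PSpFourFour
section
/-!
# `PSp₄(4)`, `p = 3`: an irreducible character of degree `225`
-/

set_option autoImplicit false
set_option linter.unusedSectionVars false

namespace Cfsg.Agent.H720.PV

open Cfsg Subgroup Cfsg.Agent.H387.VO Cfsg.Agent.H620 Cfsg.Agent.H665.NoPQ Cfsg.Agent.H690.Spor.RankThree
  Cfsg.Agent.H91 Cfsg.Agent.H91.Symp Cfsg.Agent.TitsThree Cfsg.Agent.TitsThree.SpIdent Cfsg.Agent.H686.VO
open scoped LinearAlgebra.Projectivization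

section Points

variable {F : Type} [Field F] [Fintype F]

/-- the character of degree `q (q + 1)² / 2` in the permutation character on points -/
theorem exists_points_char : ∃ χ : IrrCharacter (PSp 2 F), ∃ f : ℕ, (χ : PSp 2 F → ℂ) 1 = (f : ℂ) ∧
    2 * f = Fintype.card F * (Fintype.card F + 1) ^ 2 := by
  classical
  set q := Fintype.card F with hqdef
  have hq2 : 2 ≤ q := Fintype.one_lt_card
  have hk0 : 0 < q ^ 2 + q := by positivity
  have hcard : (1 + (q ^ 2 + q) + q ^ 3) * (q - 1) = q ^ (3 + 1) - 1 := by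
    obtain ⟨c, hc⟩ : ∃ c, q = c + 1 := ⟨q - 1, by omega⟩
    rw [hc, Nat.add_sub_cancel]
    have : (c + 1) ^ (3 + 1) = (1 + ((c + 1) ^ 2 + (c + 1)) + (c + 1) ^ 3) * c + 1 := by ring
    rw [this, Nat.add_sub_cancel]
  obtain ⟨_, H⟩ := H107.DZ.Points.exists_r3 (F := F) (m := 2) (n := 3) (k := q ^ 2 + q) (by norm_num) hk0 hcard
  rw [← hqdef] at H
  have hfin : Finite (ℙ F (Fin 2 ⊕ Fin 2 → F)) := by
    have h1 := H.cardn
    by_contra hcon
    rw [not_finite_iff_infinite] at hcon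
    rw [Nat.card_eq_zero_of_infinite] at h1
    omega
  have := Fintype.ofFinite (ℙ F (Fin 2 ⊕ Fin 2 → F))
  obtain ⟨a, b, hab⟩ := H.exists_params
  have hp := H.params_eq hab
  have hb0 : 0 < b := by
    refine RankThree.pos_of_common hab (x := pt (Sum.inl 0)) (y := pt (Sum.inr 0)) (z := pt (Sum.inl 1)) (pt_ne (by simp)) ?_
      ⟨pt_ne (by simp), ?_⟩ ⟨pt_ne (by simp), ?_⟩
    · rintro ⟨-, h⟩
      rw [pt_zero] at h
      simp [Matrix.J] at h
    · rw [pt_zero]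
      simp [Matrix.J]
    · rw [pt_zero]
      simp [Matrix.J]
  -- `b = q + 1`
  have hp' : q * (q + 1) ^ 2 = (q + 1) * (1 + a) + q ^ 2 * b := by
    have h1 : q * (q * (q + 1) ^ 2) = q * ((q + 1) * (1 + a) + q ^ 2 * b) := by
      have e1 : q * (q * (q + 1) ^ 2) = (q ^ 2 + q) * (q ^ 2 + q) := by ring
      have e2 : q * ((q + 1) * (1 + a) + q ^ 2 * b) = (q ^ 2 + q) + (q ^ 2 + q) * a + q ^ 3 * b := by ring
      rw [e1, e2, hp]
    exact Nat.eq_of_mul_eq_mul_left (by omega) h1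
  have hb1 : q + 1 ∣ b := by
    have h1 : q + 1 ∣ q ^ 2 * b := by
      refine (Nat.dvd_add_right (dvd_mul_right (q + 1) (1 + a))).1 ?_
      rw [← hp', sq]
      exact ⟨q * (q + 1), by ring⟩
    refine (Nat.Coprime.pow_right 2 ?_).dvd_of_dvd_mul_left h1
    rw [Nat.coprime_self_add_left]
    exact Nat.coprime_one_left _
  obtain ⟨c, hc⟩ := hb1
  have hp2 : q * (q + 1) = (1 + a) + q ^ 2 * c := by
    have h1 : (q + 1) * (q * (q + 1)) = (q + 1) * ((1 + a) + q ^ 2 * c) := by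
      have e1 : (q + 1) * (q * (q + 1)) = q * (q + 1) ^ 2 := by ring
      rw [e1, hp', hc]
      ring
    exact Nat.eq_of_mul_eq_mul_left (by omega) h1
  have hc1 : c = 1 := by
    have h1 : c ≠ 0 := by
      rintro rfl
      rw [mul_zero] at hc
      omega
    have h2 : c < 2 := by
      by_contra h
      push Not at h
      have h3 : q ^ 2 * 2 ≤ q ^ 2 * c := Nat.mul_le_mul_left _ h
      nlinarith only [hp2, h3]
    omega
  subst hc1
  rw [mul_one] at hc hp2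
  have ha1 : a + 1 = q := by linarith only [hp2]
  -- the degree
  have ha1Z : (a : ℤ) = q - 1 := by
    have : (a : ℤ) + 1 = q := by exact_mod_cast ha1
    linarith only [hp2]
  have hbZ : (b : ℤ) = q + 1 := by rw [hc]; push_cast; ring
  have hqZ : (2 : ℤ) ≤ q := by exact_mod_cast hq2
  obtain ⟨χ, f, hf, hfZ⟩ := RankThree.degree H hab (r := q - 1) (s := -(q + 1)) (by linarith only [hq2])
    (by rw [ha1Z, hbZ]; ring) (by rw [hbZ]; push_cast; ring)
    (by push_cast; nlinarith only [sq_nonneg (q : ℤ), pow_pos (show (0 : ℤ) < q by linarith) 3])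
    (by push_cast; linarith only [hq2, sq_nonneg (q : ℤ), mul_nonneg (show (0 : ℤ) ≤ q - 1 by linarith) (show (0 : ℤ) ≤ q ^ 2 + q + q ^ 3 by positivity)])
  refine ⟨χ, f, hf, ?_⟩
  have h1 : (2 * q : ℤ) * f = (2 * q : ℤ) * 0 + q * (q * (q + 1) ^ 2) := by
    push_cast at hfZ
    linarith only [hfZ]
  have h2 : (q : ℤ) * (2 * f) = q * (q * (q + 1) ^ 2) := by linarith only [h1]
  have h3 := mul_left_cancel₀ (by linarith only [hq2] : (q : ℤ) ≠ 0) h2
  exact_mod_cast h3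

end Points

section Four

variable {F : Type} [Field F] [Fintype F]

theorem card_psp_four (hF : Fintype.card F = 4) : Nat.card (PSp 2 F) = 979200 := by
  have h1 := Cfsg.Agent.H321.Orders.psp_eq (F := F) (m := 2) (by norm_num)
  rw [hF] at h1
  have h3 : Cfsg.Agent.OrdDiv.prB 4 2 = 3825 := by decide +kernel
  rw [h3] at h1
  norm_num at h1
  exact h1

theorem charP_two_of_four (hF : Fintype.card F = 4) : CharP F 2 := by
  obtain ⟨p, hp⟩ := CharP.exists F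
  have hpp : p.Prime := CharP.char_is_prime F p
  obtain ⟨n, -, hn⟩ := FiniteField.card F p
  rw [hF] at hn
  have h1 : p ∣ 2 ^ 2 := by
    rw [show (2 : ℕ) ^ 2 = 4 by norm_num, hn]; exact dvd_pow_self p n.ne_zero
  have h2 := (Nat.prime_dvd_prime_iff_eq hpp Nat.prime_two).1 (hpp.dvd_of_dvd_pow h1)
  rwa [h2] at hp

theorem ord_17 (hF : Fintype.card F = 4) : orderOf ((Fintype.card F : ℕ) : ZMod 17) = 4 := by
  rw [hF, show (4 : ℕ) = 2 ^ (1 + 1) by norm_num]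
  exact orderOf_eq_prime_pow (by decide) (by decide)

theorem ne_51 (hF : Fintype.card F = 4) (x : PSp 2 F) : orderOf x ≠ 51 := by
  intro hx
  have hp2 : Fact (Nat.Prime 2) := ⟨Nat.prime_two⟩
  have hchar : CharP F 2 := charP_two_of_four hF
  have hcard := card_psp_four hF
  have ho3 : orderOf ((Fintype.card F : ℕ) : ZMod 3) = 1 := by
    rw [hF, orderOf_eq_one_iff]
    decide
  have h := (Cfsg.Agent.S2469.result (F := F) 2 2 le_rfl (fun _ => by rw [hF]; norm_num) 3 17 (by norm_num) (by norm_num)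
    (by norm_num) (by norm_num) (by norm_num) (by norm_num) (by norm_num) (by rw [hcard]; norm_num)
    (by rw [hcard]; norm_num) 1 4 1 2 ho3.symm (ord_17 hF).symm (Or.inl ⟨by decide, by norm_num⟩)
    (Or.inr ⟨by decide, by norm_num⟩) (by norm_num)).2 ⟨by norm_num, ?_⟩
  · exact h ⟨x, hx⟩
  · rintro ⟨t, ht, h⟩
    have : t = 4 := by omega
    subst this
    exact absurd ht (by decide)

theorem ne_85 (hF : Fintype.card F = 4) (x : PSp 2 F) : orderOf x ≠ 85 := by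
  intro hx
  have hp2 : Fact (Nat.Prime 2) := ⟨Nat.prime_two⟩
  have hchar : CharP F 2 := charP_two_of_four hF
  have hcard := card_psp_four hF
  have ho5 : orderOf ((Fintype.card F : ℕ) : ZMod 5) = 2 := by
    rw [hF]
    exact orderOf_eq_prime (by decide) (by decide)
  have h := (Cfsg.Agent.S2469.result (F := F) 2 2 le_rfl (fun _ => by rw [hF]; norm_num) 5 17 (by norm_num) (by norm_num)
    (by norm_num) (by norm_num) (by norm_num) (by norm_num) (by norm_num) (by rw [hcard]; norm_num)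
    (by rw [hcard]; norm_num) 2 4 1 2 ho5.symm (ord_17 hF).symm (Or.inr ⟨by decide, by norm_num⟩)
    (Or.inr ⟨by decide, by norm_num⟩) (by norm_num)).2 ⟨by norm_num, ?_⟩
  · exact h ⟨x, hx⟩
  · rintro ⟨t, ht, h⟩
    have : t = 2 := by omega
    subst this
    exact absurd ht (by decide)

theorem ne_34 (hF : Fintype.card F = 4) (x : PSp 2 F) : orderOf x ≠ 34 := by
  intro hx
  have hp2 : Fact (Nat.Prime 2) := ⟨Nat.prime_two⟩
  have hchar : CharP F 2 := charP_two_of_four hF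
  have hcard := card_psp_four hF
  have h := (Cfsg.Agent.S2472.result (F := F) 2 2 le_rfl (fun _ => by rw [hF]; norm_num) 17 (by norm_num)
    (by norm_num) (by norm_num) (by rw [hcard]; norm_num) 4 2 (ord_17 hF).symm
    (Or.inr ⟨by decide, by norm_num⟩)).2 (by norm_num)
  exact h ⟨x, hx⟩

/-- the centralizer of an element of order `17` -/
theorem card_cent_17 (hF : Fintype.card F = 4) {x : PSp 2 F} (hx : orderOf x = 17) :
    Nat.card (centralizer ({x} : Set (PSp 2 F))) = 17 := by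
  have hcard := card_psp_four hF
  set C := centralizer ({x} : Set (PSp 2 F)) with hC
  have hd : Nat.card C ∣ 17 * (2 ^ 8 * 3 ^ 2 * 5 ^ 2) := by
    have := Subgroup.card_subgroup_dvd_card C
    rw [hcard] at this
    norm_num only []
    exact this
  have hno : ∀ r : ℕ, r.Prime → r ≠ 17 → (∀ y : PSp 2 F, orderOf y ≠ 17 * r) → ¬ r ∣ Nat.card C := by
    intro r hr h17 hy hdv
    have : Fact r.Prime := ⟨hr⟩
    obtain ⟨c, hc⟩ := exists_prime_orderOf_dvd_card' (G := C) r hdv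
    have hcom : Commute x (c : PSp 2 F) := (mem_centralizer_singleton_iff.1 c.2).symm
    refine hy (x * c) ?_
    rw [hcom.orderOf_mul_eq_mul_orderOf_of_coprime, hx, Subgroup.orderOf_coe, hc]
    rw [hx, Subgroup.orderOf_coe, hc]
    exact (Nat.coprime_primes (by norm_num) hr).2 h17.symm
  have h2 := hno 2 Nat.prime_two (by norm_num) (fun y => ne_34 hF y)
  have h3 := hno 3 Nat.prime_three (by norm_num) (fun y => ne_51 hF y)
  have h5 := hno 5 Nat.prime_five (by norm_num) (fun y => ne_85 hF y)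
  have h6 : Nat.Coprime (Nat.card C) (2 ^ 8 * 3 ^ 2 * 5 ^ 2) := by
    refine Nat.Coprime.mul_right (Nat.Coprime.mul_right ?_ ?_) ?_
    · exact Nat.Coprime.pow_right _ ((Nat.Prime.coprime_iff_not_dvd Nat.prime_two).2 h2).symm
    · exact Nat.Coprime.pow_right _ ((Nat.Prime.coprime_iff_not_dvd Nat.prime_three).2 h3).symm
    · exact Nat.Coprime.pow_right _ ((Nat.Prime.coprime_iff_not_dvd Nat.prime_five).2 h5).symm
  have h7 : Nat.card C ∣ 17 := h6.dvd_of_dvd_mul_right hd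
  have h8 : 17 ∣ Nat.card C := by
    rw [← hx]
    exact Subgroup.orderOf_dvd_natCard C (mem_centralizer_singleton_iff.2 rfl)
  exact Nat.dvd_antisymm h7 h8

theorem sit_17 (hF : Fintype.card F = 4) {x : PSp 2 F} (hx : orderOf x = 17) :
    H361.SelfCent.Sit (PSp 2 F) 17 57600 x where
  prime := by norm_num
  card := by rw [card_psp_four hF]
  ndvd := by norm_num
  cent := card_cent_17 hF hx

/-- the numbers -/
theorem check_17 : ∀ f : ℕ, f < 478 → 979200 % f = 0 → ∀ s ∈ ([1, -1] : List ℤ),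
    (s * (f : ℤ) - 207) % 17 = 1 → 979200 % (s * (f : ℤ) - 207).natAbs = 0 → s * (f : ℤ) - 207 ≠ 0 →
      f = 225 := by
  decide +kernel

theorem exists_e_17 (hF : Fintype.card F = 4) {x : PSp 2 F} (hx : orderOf x = 17) :
    Nat.card (normalizer ((zpowers x : Subgroup (PSp 2 F)) : Set (PSp 2 F))) = 17 * 4 := by
  have hS := sit_17 hF hx
  have h17 : Fact (Nat.Prime 17) := ⟨by norm_num⟩
  obtain ⟨e, he, h1⟩ := hS.card_norm (by norm_num)
  have h2 := hS.card_sylow_mul (by norm_num) h1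
  have h3 : Nat.card (Sylow 17 (PSp 2 F)) ≡ 1 [MOD 17] := card_sylow_modEq_one 17 (PSp 2 F)
  rw [h1]
  have he16 : e < 17 := Nat.lt_succ_of_le (Nat.le_of_dvd (by norm_num) he)
  have h4 : 57600 ≡ 1 * e [MOD 17] := h2 ▸ h3.mul_right e
  have h5 : ∀ e < 17, 57600 % 17 = 1 * e % 17 → 17 * e = 17 * 4 := by decide +kernel
  exact h5 e he16 h4

theorem exists_block_17 (hF : Fintype.card F = 4) :
    ∃ P : Sylow 17 (PSp 2 F), Nat.card P = 17 ∧ centralizer (P : Set (PSp 2 F)) = (P : Subgroup (PSp 2 F)) ∧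
      ∃ M : Ideal AlgInt, IsPModular 17 M ∧ Nonempty (SmallSimple.DegreeData.BlockData 17 M P 4 4) := by
  have h17 : Fact (Nat.Prime 17) := ⟨by norm_num⟩
  obtain ⟨x, hx⟩ := exists_prime_orderOf_dvd_card' (G := PSp 2 F) 17 (by rw [card_psp_four hF]; norm_num)
  have hS := sit_17 hF hx
  have hPx : IsPGroup 17 (zpowers x) :=
    IsPGroup.of_card (n := 1) (by rw [Nat.card_zpowers, hx, pow_one])
  obtain ⟨P, hP⟩ := hPx.exists_le_sylow
  have hPc : Nat.card P = 17 := hS.card_sylow P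
  have hPe : zpowers x = P := by
    apply Subgroup.eq_of_le_of_card_ge hP
    rw [hPc, Nat.card_zpowers, hx]
  have hC : centralizer (P : Set (PSp 2 F)) = (P : Subgroup (PSp 2 F)) := by
    have h1 : centralizer ((zpowers x : Subgroup (PSp 2 F)) : Set (PSp 2 F)) = zpowers x := by
      rw [← hS.cent_eq (by norm_num)]
      rw [hS.cent_eq (by norm_num), zpowers_eq_closure, centralizer_closure, ← zpowers_eq_closure,
        hS.cent_eq (by norm_num)]
    rw [hPe] at h1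
    exact h1
  refine ⟨P, hPc, hC, H424.BlockTools.exists_block_of_card (by norm_num) P hPc (e := 4) (c := 17) ?_ ?_ (by norm_num)⟩
  · rw [hC, hPc]
  · have h1 := exists_e_17 hF hx
    rw [hPe] at h1
    exact h1

theorem charDegree_of_apply {G : Type} [Group G] [Finite G] {χ : G → ℂ} (hχ : IsIrrCharacter G χ) {d : ℕ}
    (h : χ 1 = (d : ℂ)) : charDegree χ = d := by
  have := Cfsg.Agent.Blocks.Basic.irr_one_eq_charDegree hχ
  rw [h] at this
  exact_mod_cast this.symm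

theorem card_sylow_two (hF : Fintype.card F = 4) [Fact (Nat.Prime 2)] (P : Sylow 2 (PSp 2 F)) : Nat.card P = 256 := by
  rw [P.card_eq_multiplicity, card_psp_four hF]
  have : (979200 : ℕ).factorization 2 = 8 := by
    have h1 : (979200 : ℕ) = 2 ^ 8 * 3825 := by norm_num
    rw [h1, Nat.factorization_mul (by norm_num) (by norm_num), Finsupp.add_apply, Nat.factorization_pow,
      Finsupp.smul_apply, Nat.prime_two.factorization_self, Nat.factorization_eq_zero_of_not_dvd (by norm_num)]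
    norm_num
  rw [this]
  norm_num

/-- **`PSp₄(4)` has an irreducible character of degree `225`** -/
theorem hasDZ_three_four (hF : Fintype.card F = 4) : HasDZ 3 (PSp 2 F) := by
  classical
  have h17 : Fact (Nat.Prime 17) := ⟨by norm_num⟩
  have h3f : Fact (Nat.Prime 3) := ⟨by norm_num⟩
  have h2f : Fact (Nat.Prime 2) := ⟨Nat.prime_two⟩
  have hchar : CharP F 2 := charP_two_of_four hF
  have hcard := card_psp_four hF
  obtain ⟨P, hP, hC, M, hM, ⟨D⟩⟩ := exists_block_17 hF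
  -- the character of degree 50
  obtain ⟨χ, f, hχ, hf⟩ := exists_points_char (F := F)
  rw [hF] at hf
  have hf50 : f = 50 := by omega
  subst hf50
  have hχd := charDegree_of_apply χ.2 hχ
  -- the Steinberg character
  obtain ⟨ψ', hψ, hSt⟩ := Cfsg.Agent.S2545.result (F := F) 2 2 (by norm_num)
  obtain ⟨Q⟩ : Nonempty (Sylow 2 (PSp 2 F)) := inferInstance
  have hψ1 := (hSt Q).1
  rw [card_sylow_two hF Q] at hψ1
  have hψd := charDegree_of_apply hψ hψ1
  set ψ : IrrCharacter (PSp 2 F) := ⟨ψ', hψ⟩ with hψdef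
  have hψd' : charDegree (ψ : PSp 2 F → ℂ) = 256 := hψd
  -- the exceptional characters
  have hex := D.dexc_modEq hP (by norm_num)
  have hexa := D.natAbs_dexc
  have hone : charDegree (D.one : PSp 2 F → ℂ) = 1 := by
    apply Blocks.Knorr.charDegree_of_natCast
    rw [D.coe_one]; simp
  -- both are non exceptional
  have key : ∀ (θ : IrrCharacter (PSp 2 F)) (d : ℕ), charDegree (θ : PSp 2 F → ℂ) = d → 1 < d →
      (d % 17 = 1 ∨ d % 17 = 16) → θ ∈ D.l := by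
    intro θ d hd hd1 hdm
    have h1 : θ ∈ principalBlock M (PSp 2 F) := by
      by_contra hcon
      have := D.dvd_degree hM hP hC hcon
      rw [hd] at this
      omega
    rcases (D.mem_block θ).1 h1 with h2 | h2
    · rcases List.mem_cons.1 h2 with h3 | h3
      · rw [h3, hone] at hd
        omega
      · exact h3
    · exfalso
      have h3 := D.deg_X θ h2
      rw [hd] at h3
      rw [← h3] at hexa
      rw [Int.ModEq] at hex
      push_cast at hex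
      (clear * - hex hexa hdm; omega)
  have hχl := key χ 50 hχd (by norm_num) (by norm_num)
  have hψl := key ψ 256 hψd' (by norm_num) (by norm_num)
  have hχs : D.sd χ = -50 := by
    have h1 := D.sd_modEq hP (List.mem_cons_of_mem _ hχl)
    have h2 := D.natAbs_sd (List.mem_cons_of_mem _ hχl)
    rw [hχd] at h2
    rw [Int.ModEq] at h1
    push_cast at h1
    omega
  have hψs : D.sd ψ = 256 := by
    have h1 := D.sd_modEq hP (List.mem_cons_of_mem _ hψl)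
    have h2 := D.natAbs_sd (List.mem_cons_of_mem _ hψl)
    rw [hψd'] at h2
    rw [Int.ModEq] at h1
    push_cast at h1
    omega
  have m50 : (-50 : ℤ) ∈ D.degs := List.mem_map.2 ⟨χ, hχl, hχs⟩
  have m256 : (256 : ℤ) ∈ D.degs := List.mem_map.2 ⟨ψ, hψl, hψs⟩
  have hlen : D.degs.length = 3 := by have := D.length_degs; omega
  have hspec := D.degs_spec hP
  have hdex := D.dexc_eq (by norm_num)
  have hsq := D.sum_sq_le
  obtain ⟨z, hz, hsum, hsqs⟩ : ∃ z, z ∈ D.degs ∧ D.degs.sum = 206 + z ∧ 68036 ≤ (D.degs.map (· ^ 2)).sum := by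
    match hL : D.degs, hlen with
    | [a, b, c], _ =>
      rw [hL] at m50 m256
      simp only [List.mem_cons, List.not_mem_nil, or_false] at m50 m256
      simp only [List.map_cons, List.map_nil, List.sum_cons, List.sum_nil, List.mem_cons, List.not_mem_nil, or_false]
      rcases m50 with h | h | h <;> rcases m256 with h' | h' | h' <;> subst h <;>
        first
          | (exfalso; omega)
          | (subst h'; exact ⟨a, by simp, by ring, by linarith only [sq_nonneg a]⟩)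
          | (subst h'; exact ⟨b, by simp, by ring, by linarith only [sq_nonneg b]⟩)
          | (subst h'; exact ⟨c, by simp, by ring, by linarith only [sq_nonneg c]⟩)
  obtain ⟨hz1, hz2, hz3⟩ := hspec z hz
  rw [hsum] at hdex
  rw [hcard] at hsq hz2
  have hfd : D.f ∣ 979200 := by
    have := D.f_dvd (by norm_num)
    rwa [hcard] at this
  have hflt : D.f < 478 := by
    by_contra hcon
    push Not at hcon
    have h1 : (478 : ℤ) ≤ D.f := by exact_mod_cast hcon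
    push_cast at hsq
    nlinarith only [hsq, hsqs, hcon]
  have hf225 : D.f = 225 := by
    obtain ⟨s, hs, hzs⟩ : ∃ s ∈ ([1, -1] : List ℤ), z = s * (D.f : ℤ) - 207 := by
      rcases D.d_mem with h | h
      · refine ⟨1, by simp, ?_⟩
        unfold SmallSimple.DegreeData.BlockData.dexc at hdex
        rw [h] at hdex
        linarith only [hdex]
      · refine ⟨-1, by simp, ?_⟩
        unfold SmallSimple.DegreeData.BlockData.dexc at hdex
        rw [h] at hdex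
        linarith only [hdex]
    rw [hzs] at hz1 hz2 hz3
    refine check_17 D.f hflt (Nat.mod_eq_zero_of_dvd hfd) s hs ?_ (Nat.mod_eq_zero_of_dvd hz2) hz3
    rw [Int.ModEq] at hz1
    push_cast at hz1
    rw [hz1]
  obtain ⟨Θ, hΘ⟩ := D.exists_X (by norm_num)
  have hΘd := D.deg_X Θ hΘ
  rw [hf225] at hΘd
  have hΘ1 : (Θ : PSp 2 F → ℂ) 1 = ((225 : ℕ) : ℂ) := by
    rw [Cfsg.Agent.Blocks.Basic.irr_one_eq_charDegree Θ.2, hΘd]
  refine hasDZ_of_degree Θ.2 hΘ1 ?_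
  rw [hcard]
  have : (979200 : ℕ).factorization 3 = 2 := by
    have h1 : (979200 : ℕ) = 3 ^ 2 * 108800 := by norm_num
    rw [h1, Nat.factorization_mul (by norm_num) (by norm_num), Finsupp.add_apply, Nat.factorization_pow,
      Finsupp.smul_apply, Nat.prime_three.factorization_self, Nat.factorization_eq_zero_of_not_dvd (by norm_num)]
    norm_num
  rw [this]
  norm_num

end Four

end Cfsg.Agent.H720.PV
end

-- part: H720/PV/PSpField
section
/-!
# The row `PSp` of S4555 and S4559 (helper720)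
-/

set_option autoImplicit false

namespace Cfsg.Agent.H720.PV

open Cfsg Cfsg.Agent.H620 Cfsg.Agent.H620.PNorm Cfsg.Agent.H665.NoPQ

universe u

theorem even_of_charP_two {F : Type} [Field F] [Fintype F] [CharP F 2] : 2 ∣ Fintype.card F := by
  obtain ⟨n, -, hn⟩ := FiniteField.card F 2
  rw [hn]
  exact dvd_pow_self 2 n.ne_zero

/-- the row `PSp`, given `Sp₄(2^a)`, `a ≥ 3`, `p ∣ q - 1` -/
theorem psp_of (h8 : ∀ (F : Type) [Field F] [Fintype F] [CharP F 2], 8 ≤ Fintype.card F →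
      ∀ (p : ℕ) [Fact p.Prime], p ≠ 2 → p ∣ Fintype.card F - 1 → VOrdP p (PSp 2 F))
    (K : Type u) [Group K] [Finite K] [IsSimpleGroup K] (p r : ℕ) (hp : p.Prime) (hr : r.Prime) (hpr : p ≠ r)
    (h : IsPSpChar r K) (hd : p ∣ Nat.card K) : VOrdP p K := by
  have : Fact p.Prime := ⟨hp⟩
  have : Fact r.Prime := ⟨hr⟩
  obtain ⟨F, _, _, _, m, hm, hm2, ⟨e⟩⟩ := h
  have hs : IsSimpleGroup (PSp m F) := by
    have : Nontrivial (PSp m F) := e.toEquiv.nontrivial_congr.1 inferInstance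
    exact IsSimpleGroup.isSimpleGroup_of_surjective (G := K) e.toMonoidHom e.surjective
  suffices hv : VOrdP p (PSp m F) from hv.mulEquiv e.symm
  rw [Nat.card_congr e.toEquiv] at hd
  have hq2 : 2 ≤ Fintype.card F := Fintype.one_lt_card
  by_cases hpq : p ∣ Fintype.card F ^ 2 - 1
  swap
  · exact vOrdP_psp_dz hm hm2 hs hpr hpq hd
  obtain ⟨l, rfl⟩ : ∃ l, m = 1 + l := ⟨m - 1, by omega⟩
  by_cases hl : 2 ≤ l
  · exact vOrdP_psp_gen (by omega) (Or.inl hl) (fun h => by omega) hpr hpq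
  have hl1 : l = 1 := by omega
  subst hl1
  have h3 : 3 ≤ Fintype.card F := hm2 rfl
  by_cases h2 : r = 2
  · subst h2
    have hev := even_of_charP_two (F := F)
    have e2 : Fintype.card F ^ 2 - 1 = (Fintype.card F + 1) * (Fintype.card F - 1) := by
      have := Nat.sq_sub_sq (Fintype.card F) 1
      simpa only [_root_.one_pow] using this
    rw [e2] at hpq
    rcases hp.dvd_mul.1 hpq with h | h
    · exact vOrdP_of_hasDZ (Cfsg.Agent.H686.VO.hasDZ_four hpr h) hd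
    · by_cases h8' : 8 ≤ Fintype.card F
      · exact h8 F h8' p hpr h
      · have hc : Fintype.card F = 4 ∨ Fintype.card F = 6 := by omega
        rcases hc with hc | hc
        · rw [hc] at h
          have hp3 : p = 3 := (Nat.prime_dvd_prime_iff_eq hp Nat.prime_three).1 h
          subst hp3
          exact vOrdP_of_hasDZ (hasDZ_three_four hc) hd
        · exfalso
          obtain ⟨n, -, hn⟩ := FiniteField.card F 2
          rw [hc] at hn
          have h3d : 3 ∣ 2 ^ (n : ℕ) := by rw [← hn]; norm_num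
          have := Nat.prime_three.dvd_of_dvd_pow h3d
          omega
  · have h2F : (2 : F) ≠ 0 := by
      intro h0
      have h1 : r ∣ 2 := (CharP.cast_eq_zero_iff F r 2).1 (by exact_mod_cast h0)
      exact h2 ((Nat.prime_dvd_prime_iff_eq hr Nat.prime_two).1 h1)
    by_cases h4 : 4 ≤ Fintype.card F
    · exact vOrdP_psp_gen le_rfl (Or.inr h2F) (fun _ => h4) hpr hpq
    · have hc : Fintype.card F = 3 := by omega
      rw [hc] at hpq
      have hp2 : p = 2 := by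
        have h1 : p ∣ 2 ^ 3 := hpq
        exact (Nat.prime_dvd_prime_iff_eq hp Nat.prime_two).1 (hp.dvd_of_dvd_pow h1)
      subst hp2
      exact vOrdP_psp_three hc hs

end Cfsg.Agent.H720.PV
end

-- part: H649/VanSp4/Row
section
/-!
# The row `PSp` of S4555 and S4559 (helper649)
-/

set_option autoImplicit false

open Cfsg

namespace Cfsg.Agent.H649.VanSp4

universe u

/-- **The row `PSp_{2m}(q)`.** -/
theorem psp (K : Type u) [Group K] [Finite K] [IsSimpleGroup K] (p r : ℕ) (hp : p.Prime) (hr : r.Prime) (hpr : p ≠ r)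
    (h : IsPSpChar r K) (hd : p ∣ Nat.card K) : H620.PNorm.VOrdP p K :=
  Cfsg.Agent.H720.PV.psp_of (fun _ _ _ _ h8 _ _ _ hd => vOrdP_sp4 h8 hd) K p r hp hr hpr h hd

end Cfsg.Agent.H649.VanSp4
end

private theorem dce_cf3774aafe22 : _root_.True := by
  try have : _root_.True := by simp only [_root_.Cfsg.Agent.H649.VanSp4.CC.eq_1]
  exact _root_.True.intro
end
end
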