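import Cfsg.Agent.H123.PV.Suz_mg_m3
import Cfsg.Agent.CoOneType.CoEval
import Cfsg.Agent.Prune
set_option linter.all false
open scoped Cfsg.Agent.FastGrp

/-!
# S4555 / S4559, the row `Co3`, `p = 2`: an element of order 8 with a centraliser of order at most 32 (helper592)

The permutations of the 552 vectors which preserve the inner products and commute with `t` form a group of order at
most `32 * 2`; it contains `w ↦ u - w`, which is not induced by an element of `Co3`.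
-/

set_option autoImplicit false

namespace Cfsg.Agent.H592.VN.Co3

open Cfsg Cfsg.Agent.LeechMat.Core Cfsg.Agent.LeechMat.Code Cfsg.Agent.LeechMat.Words Cfsg.Agent.LeechMat.Elements
  Cfsg.Agent.SporadicStructure.PermChain
  Cfsg.Agent.McLType.Chain Cfsg.Agent.LeechPack.Core Cfsg.Agent.LeechPack.X552 Cfsg.Agent.Schreier.CoThreeGens
  Cfsg.Agent.Schreier.CoThreeCent Cfsg.Agent.H592.VN.Co2

/-! ### inner products -/

theorem dot_eq (a b : ℕ) : dotInt (vec a) (vec b) = (dn 24 a b : ℤ) - 16 * ((dsum 24 a : ℤ) + dsum 24 b) + 6144 := by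
  rw [← dotc_eq, dotc, sumTo_eq, dn_eq, dsum_eq, dsum_eq]
  have h4 : (6144 : ℤ) = ∑ _k ∈ Finset.range 24, (256 : ℤ) := by
    rw [Finset.sum_const, Finset.card_range]; norm_num
  rw [h4]
  push_cast
  rw [← Finset.sum_add_distrib, Finset.mul_sum, ← Finset.sum_sub_distrib, ← Finset.sum_add_distrib]
  refine Finset.sum_congr rfl fun k _ => ?_
  unfold sdig
  ring

theorem dq_iff (a b v : ℕ) : dq a b v = true ↔ dotInt (vec a) (vec b) = (v : ℤ) - 16 := by
  have h : dq a b v = true ↔ dn 24 a b + 6160 = 16 * (dsum 24 a + dsum 24 b) + v :=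
    ⟨fun h => Nat.eq_of_beq_eq_true h, fun h => by rw [dq, h]; exact Nat.beq_refl _⟩
  rw [h, dot_eq]
  omega

theorem dq_congr {a b a' b' : ℕ} (h : dotInt (vec a) (vec b) = dotInt (vec a') (vec b')) (v : ℕ) :
    dq a b v = dq a' b' v := by
  rw [Bool.eq_iff_iff, dq_iff, dq_iff, h]

/-- The inner product. -/
noncomputable def D (i j : Fin 552) : ℤ := dotInt (X i : GolayPt → ℤ) (X j : GolayPt → ℤ)

/-! ### the element -/

theorem exists_t : ∃ t : G3, ∀ i : Fin 552, (ψ t i : ℕ) = tv i := by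
  obtain ⟨τ, hτ, h⟩ := in_t
  obtain ⟨t, rfl⟩ := K0_le hτ
  exact ⟨t, h⟩

noncomputable def t : G3 := exists_t.choose

theorem ψ_t (i : Fin 552) : (ψ t i : ℕ) = tv i := exists_t.choose_spec i

theorem it_eq (n : ℕ) : ∀ i : Fin 552, it n i = ((ψ t ^ n) i : Fin 552) := by
  induction n with
  | zero => exact fun _ => rfl
  | succ n ih =>
    intro i
    rw [it, frc_eq, ← ψ_t, ih, pow_succ]
    rfl

theorem t_pow : t ^ 8 = 1 := by
  apply ψ_injective
  rw [map_pow, map_one]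
  refine Equiv.ext fun i => Fin.ext ?_
  rw [← it_eq]
  exact Nat.eq_of_beq_eq_true (allBelow_spec _ _ it_eight i i.2)

/-! ### the group -/

/-- The permutations which preserve the inner products and commute with `t`. -/
def Ct : Subgroup (Equiv.Perm (Fin 552)) where
  carrier := {σ | (∀ i j, D (σ i) (σ j) = D i j) ∧ ∀ i, σ (ψ t i) = ψ t (σ i)}
  one_mem' := ⟨fun _ _ => rfl, fun _ => rfl⟩
  mul_mem' := by
    rintro σ ρ ⟨h1, h2⟩ ⟨h3, h4⟩
    refine ⟨fun i j => ?_, fun i => ?_⟩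
    · rw [Equiv.Perm.mul_apply, Equiv.Perm.mul_apply, h1, h3]
    · rw [Equiv.Perm.mul_apply, Equiv.Perm.mul_apply, h4, h2]
  inv_mem' := by
    rintro σ ⟨h1, h2⟩
    refine ⟨fun i j => ?_, fun i => ?_⟩
    · have := h1 (σ⁻¹ i) (σ⁻¹ j)
      rw [show σ (σ⁻¹ i) = i from σ.apply_symm_apply i, show σ (σ⁻¹ j) = j from σ.apply_symm_apply j] at this
      exact this.symm
    · apply σ.injective
      rw [show σ (σ⁻¹ (ψ t i)) = ψ t i from σ.apply_symm_apply _, h2, show σ (σ⁻¹ i) = i from σ.apply_symm_apply i]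

section

variable {σ : Equiv.Perm (Fin 552)} (hσ : σ ∈ Ct)

include hσ in
theorem dq_σ (i j : Fin 552) (v : ℕ) : dq (cd (σ i)) (cd (σ j)) v = dq (cd i) (cd j) v :=
  dq_congr (hσ.1 i j) v

include hσ in
theorem ty_σ (i : Fin 552) : ty (σ i) = ty i := by
  have e : ∀ j : Fin 552, tv j = (ψ t j : Fin 552) := fun j => (ψ_t j).symm
  have c := hσ.2
  unfold ty
  simp only [frc_eq]
  rw [e (σ i), ← c i, e (σ _), ← c, e (σ _), ← c, e (σ _), ← c, dq_σ hσ, dq_σ hσ, dq_σ hσ, dq_σ hσ, e i, e _, e _, e _]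

/-- `p` is the index of a vector fixed by `σ`. -/
def Fx (σ : Equiv.Perm (Fin 552)) (p : ℕ) : Prop := ∃ h : p < 552, σ ⟨p, h⟩ = ⟨p, h⟩

include hσ in
theorem Fx.tv {p : ℕ} (h : Fx σ p) : Fx σ (tv p) := by
  obtain ⟨h1, h2⟩ := h
  have h3 := hσ.2 ⟨p, h1⟩
  rw [h2] at h3
  have h4 : Co3.tv p = (ψ t ⟨p, h1⟩ : Fin 552) := (ψ_t ⟨p, h1⟩).symm
  rw [h4]
  exact ⟨Fin.is_lt _, h3⟩

include hσ in
theorem Fx.it (n : ℕ) : ∀ {p : ℕ}, Fx σ p → Fx σ (it n p) := by
  induction n with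
  | zero => exact fun h => h
  | succ n ih =>
    intro p h
    rw [Co3.it, frc_eq]
    exact ih (Fx.tv hσ h)

include hσ in
theorem Fx.of_inC (h14 : Fx σ 14) {p : ℕ} (h : inC p = true) : Fx σ p := by
  rw [inC, List.any_eq_true] at h
  obtain ⟨k, -, hk⟩ := h
  rw [← Nat.eq_of_beq_eq_true hk]
  exact Fx.it hσ k h14

include hσ in
theorem Fx.of_inC' (h14 : Fx σ 14) (h341 : Fx σ 341) {p : ℕ} (h : inC' p = true) : Fx σ p := by
  rw [inC', Bool.or_eq_true] at h
  rcases h with h | h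
  · exact Fx.of_inC hσ h14 h
  · rw [List.any_eq_true] at h
    obtain ⟨k, -, hk⟩ := h
    rw [← Nat.eq_of_beq_eq_true hk]
    exact Fx.it hσ k h341

include hσ in
theorem ds_σ (i : Fin 552) (l : List (ℕ × ℕ)) (hl : ∀ p ∈ l, Fx σ p.1) : ds (cd (σ i)) l = ds (cd i) l := by
  induction l with
  | nil => rfl
  | cons p l ih =>
    rw [ds, ds, ih fun q hq => hl q (List.mem_cons_of_mem _ hq)]
    obtain ⟨h1, h2⟩ := hl p List.mem_cons_self
    have h3 := dq_σ hσ i ⟨p.1, h1⟩ p.2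
    rw [h2] at h3
    rw [h3]

include hσ in
/-- The image of `14`. -/
theorem img14 : Nat.testBit M0 (σ 14) = true := by
  have h := allBelow_spec _ _ chk0 (σ 14) (σ 14).2
  rw [Bool.or_eq_true, ty_σ hσ] at h
  rcases h with h | h
  · have h1 : ty ((14 : Fin 552) : ℕ) = true := ty14
    rw [h1] at h
    exact absurd h (by decide)
  · exact h

include hσ in
/-- The image of `341` if `14` is fixed. -/
theorem img341 (h14 : Fx σ 14) : σ 341 = 341 ∨ σ 341 = 447 := by
  have h := allBelow_spec _ _ chk1 (σ 341) (σ 341).2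
  have hl : ∀ p ∈ L1, Fx σ p.1 := fun p hp => Fx.of_inC hσ h14 (List.all_eq_true.1 inC_L1 p hp)
  rw [Bool.or_eq_true, Bool.or_eq_true, ty_σ hσ, ds_σ hσ _ _ hl] at h
  rcases h with h | h | h
  · have h1 : ty ((341 : Fin 552) : ℕ) = true := ty341
    have h2 : ds (cd ((341 : Fin 552) : ℕ)) L1 = true := ds341
    rw [h1, h2] at h
    exact absurd h (by decide)
  · left
    exact Fin.ext (Nat.eq_of_beq_eq_true h)
  · right
    exact Fin.ext (Nat.eq_of_beq_eq_true h)

include hσ in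
/-- The vectors of the list are fixed. -/
theorem fixJ (h14 : Fx σ 14) (h341 : Fx σ 341) {q : ℕ × List (ℕ × ℕ)} (hq : q ∈ LJ) : Fx σ q.1 := by
  have h1 := List.all_eq_true.1 inC_LJ q hq
  rw [Bool.and_eq_true, Nat.blt_eq] at h1
  have hl : ∀ p ∈ q.2, Fx σ p.1 := fun p hp => Fx.of_inC' hσ h14 h341 (List.all_eq_true.1 h1.2 p hp)
  have h2 := List.all_eq_true.1 chk2 q hq
  rw [chkJ, Bool.and_eq_true] at h2
  have h3 := allBelow_spec _ _ h2.2 (σ ⟨q.1, h1.1⟩) (σ ⟨q.1, h1.1⟩).2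
  rw [Bool.or_eq_true, ds_σ hσ _ _ hl] at h3
  refine ⟨h1.1, ?_⟩
  rcases h3 with h3 | h3
  · rw [show ds (cd ((⟨q.1, h1.1⟩ : Fin 552) : ℕ)) q.2 = true from h2.1] at h3
    exact absurd h3 (by decide)
  · exact Fin.ext (Nat.eq_of_beq_eq_true h3)

include hσ in
theorem fix_rel (h14 : Fx σ 14) (h341 : Fx σ 341) {p : ℕ × ℤ} (hp : p ∈ rel) : Fx σ p.1 := by
  have h1 := List.all_eq_true.1 inC_rel p hp
  rw [Bool.or_eq_true] at h1
  rcases h1 with h1 | h1
  · exact Fx.of_inC' hσ h14 h341 h1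
  · rw [List.any_eq_true] at h1
    obtain ⟨q, hq, h2⟩ := h1
    rw [← Nat.eq_of_beq_eq_true h2]
    exact fixJ hσ h14 h341 hq

theorem sum_lc (d : GolayPt → ℤ) (l : List (ℕ × ℤ)) :
    ∑ k ∈ Finset.range 24, d (pt k) * lc k l = (l.map fun p => p.2 * dotInt d (vec (cd p.1))).sum := by
  induction l with
  | nil => simp [lc]
  | cons p l ih =>
    rw [List.map_cons, List.sum_cons, ← ih]
    have h : dotInt d (vec (cd p.1)) = ∑ k ∈ Finset.range 24, d (pt k) * sdig (cd p.1) k := by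
      unfold dotInt
      rw [sum_points']
      refine Finset.sum_congr rfl fun k hk => ?_
      rw [vec_apply, pos_pt k (Finset.mem_range.1 hk)]
    rw [h, Finset.mul_sum, ← Finset.sum_add_distrib]
    refine Finset.sum_congr rfl fun k _ => ?_
    rw [lc]
    ring

theorem abs_X (i : Fin 552) (p : GolayPt) : |(X i : GolayPt → ℤ) p| ≤ 5 := by
  have h1 := sq_le_sqNorm (X i : GolayPt → ℤ) p
  rw [(dots_spec i).1] at h1
  rw [abs_le]
  constructor <;> nlinarith

include hσ in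
/-- The stabiliser of both is trivial. -/
theorem eq_one (h14 : Fx σ 14) (h341 : Fx σ 341) : σ = 1 := by
  refine Equiv.ext fun i => X_injective (Subtype.ext ?_)
  show (X (σ i) : GolayPt → ℤ) = (X i : GolayPt → ℤ)
  set d : GolayPt → ℤ := (X (σ i) : GolayPt → ℤ) - (X i : GolayPt → ℤ) with hd
  have h1 : (rel.map fun p => p.2 * dotInt d (vec (cd p.1))).sum = 0 := by
    refine List.sum_eq_zero fun x hx => ?_
    obtain ⟨p, hp, rfl⟩ := List.mem_map.1 hx
    obtain ⟨h2, h3⟩ := fix_rel hσ h14 h341 hp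
    have h4 := hσ.1 i ⟨p.1, h2⟩
    rw [h3] at h4
    have h5 : dotInt d (vec (cd p.1)) = D (σ i) ⟨p.1, h2⟩ - D i ⟨p.1, h2⟩ := by
      rw [hd, dotInt_sub_left]
      rfl
    rw [h5, h4, sub_self, mul_zero]
  rw [← sum_lc] at h1
  have h2 : ∑ k ∈ Finset.range 24, d (pt k) * lc k rel = 24 * ∑ k ∈ Finset.range 24, d (pt k) * 64 ^ k := by
    rw [Finset.mul_sum]
    refine Finset.sum_congr rfl fun k hk => ?_
    rw [of_decide_eq_true (allBelow_spec _ _ rel_eq k (Finset.mem_range.1 hk))]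
    ring
  rw [h2] at h1
  have h3 : ∑ k ∈ Finset.range 24, d (pt k) * 64 ^ k = 0 := by omega
  have h4 := Cfsg.Agent.CoOneType.CoEval.digits 24 (fun k => d (pt k)) (fun k _ => by
    have h5 := abs_le.1 (abs_X (σ i) (pt k))
    have h6 := abs_le.1 (abs_X i (pt k))
    rw [abs_le]
    show -16 ≤ (X (σ i) : GolayPt → ℤ) (pt k) - (X i : GolayPt → ℤ) (pt k) ∧
      (X (σ i) : GolayPt → ℤ) (pt k) - (X i : GolayPt → ℤ) (pt k) ≤ 16
    constructor <;> omega) h3
  funext p
  have h5 := h4 (pos p) (pos_lt p)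
  simp only [pt_pos] at h5
  rw [hd, Pi.sub_apply] at h5
  omega

end

end Cfsg.Agent.H592.VN.Co3

private theorem dce_80847be9694c : _root_.True := by
  try have : _root_.True := by simp only [_root_.Cfsg.Agent.H592.VN.Co3.chkJ.eq_1]
  try have : _root_.True := by simp only [_root_.Cfsg.Agent.H592.VN.Co3.inC.eq_1]
  try have : _root_.True := by simp only [_root_.Cfsg.Agent.H592.VN.Co3.lc.eq_1]
  try have : _root_.True := by simp only [_root_.Cfsg.Agent.H592.VN.Co3.lc.eq_2]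
  try have : _root_.True := by simp only [_root_.Cfsg.Agent.H592.VN.Co2.dq.eq_1]
  try have : _root_.True := by simp only [_root_.Cfsg.Agent.H592.VN.Co3.inC'.eq_1]
  try have : _root_.True := by simp only [_root_.Cfsg.Agent.H592.VN.Co3.it.eq_def]
  try have : _root_.True := by simp only [_root_.Cfsg.Agent.H592.VN.Co3.ds.eq_2]
  try have : _root_.True := by simp only [_root_.Cfsg.Agent.H592.VN.Co3.ds.eq_def]
  try have : _root_.True := by simp only [_root_.Cfsg.Agent.H592.VN.Co3.ds.eq_1]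
  try have : _root_.True := by simp only [_root_.Cfsg.Agent.H592.VN.Co3.lc.eq_def]
  try have : _root_.True := by simp only [_root_.Cfsg.Agent.H592.VN.Co3.it.eq_2]
  try have : _root_.True := by simp only [_root_.Cfsg.Agent.H592.VN.Co3.it.eq_1]
  exact _root_.True.intro
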